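import Groth.Agent.Lib.IdealModSec.Basic
import Groth.Agent.Lib.QCoh.PullbackSections
import Groth.Agent.Lib.QCoh.Filtration
import Groth.Agent.Lib.Koszul12.Main
import Groth.Agent.Lib.SeqKinds.Basic
import Groth.Agent.Lib.FittSheaf.Pullback
import Groth.Agent.Lib.H1Sheaf6.Conormal
import Groth.Agent.Lib.FunMor20.Glue
import Groth.Prelude.Def_RegImm
import Mathlib.RingTheory.OrzechProperty

/-!
# The conormal sheaf of a completely intersecting intersection
-/

set_option autoImplicit false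
set_option linter.all false
set_option maxHeartbeats 1000000
set_option backward.isDefEq.respectTransparency false
set_option backward.isDefEq.respectTransparency.types false
universe u

open CategoryTheory CategoryTheory.Limits AlgebraicGeometry TopologicalSpace Opposite TensorProduct

noncomputable section

namespace GrothLib.RegImm12

open GrothLib.InvExt (mres)

variable {P Y : Scheme.{u}}

/-- Coefficients of a relation of an `H_1`-regular sequence lie in its ideal. -/
theorem mem_span_of_h1 {R : Type u} [CommRing R] {c : ℕ} {f : Fin c → R} (hf : CAlgX.IsH1Regular f)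
    {a : Fin c → R} (ha : ∑ i, a i * f i = 0) (k : Fin c) : a k ∈ Ideal.span (Set.range f) := by
  classical
  have h := Submodule.span_le (p := Submodule.pi Set.univ fun _ : Fin c => Ideal.span (Set.range f)).2 ?_ (hf a ha)
  · exact h k trivial
  · rintro v ⟨i, j, rfl⟩ l -
    simp only [Pi.sub_apply, Pi.single_apply]
    refine sub_mem ?_ ?_ <;> split_ifs
    all_goals first
      | exact Ideal.subset_span ⟨_, rfl⟩
      | exact zero_mem _

theorem exists_seq {Z : Scheme.{u}} (j : Z ⟶ P) [IsClosedImmersion j] {d : ℕ}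
    (hj : RegImm.IsRegularImmersionOfCodim RegImm.Kind.koszul d j) (z : Z) :
    ∃ U : P.affineOpens, j z ∈ U.1 ∧ ∃ f : Fin d → Γ(P, U.1), j.ker.ideal U = Ideal.span (Set.range f) ∧
      ∀ a : Fin d → Γ(P, U.1), ∑ i, a i * f i = 0 → ∀ k, a k ∈ j.ker.ideal U := by
  obtain ⟨U, hzU, -, rs, hlen, hreg, hker⟩ := hj.2 z
  subst hlen
  refine ⟨U, hzU, rs.get, ?_, fun a ha k => ?_⟩
  · rw [j.ker_apply, hker, Ideal.ofList]
    congr 1
    ext a
    exact List.mem_iff_get
  · have hs : j.ker.ideal U = Ideal.span (Set.range rs.get) := by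
      rw [j.ker_apply, hker, Ideal.ofList]
      congr 1
      ext a
      exact List.mem_iff_get
    rw [hs]
    exact mem_span_of_h1 (GrothLib.SeqKinds.isH1Regular_of_isKoszulRegularSeq rs hreg) ha k

variable (i : Y ⟶ P) [QuasiCompact i]

/-- Generators with relations in the ideal give a frame of the pulled back ideal. -/
theorem exists_equiv_sections {c : ℕ} (J : P.IdealSheafData) (hJ : J ≤ i.ker) (W : P.affineOpens)
    (f : Fin c → Γ(P, W.1)) (hs : J.ideal W = Ideal.span (Set.range f))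
    (hrel : ∀ a : Fin c → Γ(P, W.1), ∑ k, a k * f k = 0 → ∀ k, a k ∈ J.ideal W)
    (T : Y.affineOpens) (hT : T.1 ≤ i ⁻¹ᵁ W.1) :
    Nonempty ((Fin c → Γ(Y, T.1)) ≃ₗ[Γ(Y, T.1)] Γ((Scheme.Modules.pullback i).obj (ClSub.idealMod J), T.1)) := by
  classical
  letI : Algebra Γ(P, W.1) Γ(Y, T.1) := (i.appLE W.1 T.1 hT).hom.toAlgebra
  haveI := H1Sheaf6.isQuasicoherent_idealMod J
  have hb := QCoh.bijective_sectionsMap i (ClSub.idealMod J) hT rfl W.2 T.2
  choose g hg using fun k => IdealModSec.exists_val_eq J W (hs.ge (Ideal.subset_span ⟨k, rfl⟩) : f k ∈ J.ideal W)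
  let π : (Fin c → Γ(P, W.1)) →ₗ[Γ(P, W.1)] Γ(ClSub.idealMod J, W.1) := Fintype.linearCombination Γ(P, W.1) g
  have hπ : ∀ a, IdealModSec.val J W.1 (π a) = ∑ k, a k * f k := fun a => by
    rw [Fintype.linearCombination_apply]
    unfold IdealModSec.val
    rw [map_sum]
    refine Finset.sum_congr rfl fun k _ => ?_
    exact (IdealModSec.val_smul J W.1 (a k) (g k)).trans (congrArg (a k * ·) (hg k))
  have hsurj : Function.Surjective π := fun m => by
    have hm := IdealModSec.val_mem J W m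
    rw [hs] at hm
    obtain ⟨a, ha⟩ := Ideal.mem_span_range_iff_exists_fun.1 hm
    exact ⟨a, IdealModSec.val_injective J W.1 ((hπ a).trans ha)⟩
  let r : (Fin c → Γ(P, W.1)) →ₗ[Γ(P, W.1)] (Fin c → Γ(Y, T.1)) :=
    (Algebra.linearMap Γ(P, W.1) Γ(Y, T.1)).compLeft (Fin c)
  have hker : LinearMap.ker π ≤ LinearMap.ker r := fun a ha => by
    refine funext fun k => ?_
    have h1 := hJ W (hrel a ((hπ a).symm.trans (by rw [LinearMap.mem_ker.1 ha, IdealModSec.val_zero])) k)
    rw [i.ker_apply, RingHom.mem_ker] at h1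
    show Y.presheaf.map (homOfLE hT).op (i.app W.1 (a k)) = 0
    rw [h1, map_zero]
  let δ : Γ(ClSub.idealMod J, W.1) →ₗ[Γ(P, W.1)] (Fin c → Γ(Y, T.1)) :=
    (LinearMap.ker π).liftQ r hker ∘ₗ (π.quotKerEquivOfSurjective hsurj).symm.toLinearMap
  have hδ : ∀ a, δ (π a) = r a := fun a => by
    show (LinearMap.ker π).liftQ r hker ((π.quotKerEquivOfSurjective hsurj).symm (π a)) = _
    rw [show (π.quotKerEquivOfSurjective hsurj).symm (π a) = Submodule.Quotient.mk a from
      (LinearEquiv.symm_apply_eq _).2 rfl, Submodule.liftQ_apply]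
  let Ψ : (Fin c → Γ(Y, T.1)) →ₗ[Γ(Y, T.1)] Γ(Y, T.1) ⊗[Γ(P, W.1)] Γ(ClSub.idealMod J, W.1) :=
    Fintype.linearCombination Γ(Y, T.1) (fun k => (1 : Γ(Y, T.1)) ⊗ₜ g k)
  have hδi : ∀ k, δ (g k) = Pi.single k (1 : Γ(Y, T.1)) := fun k => by
    have : π (Pi.single k 1) = g k := by
      rw [Fintype.linearCombination_apply_single, one_smul]
    rw [← this, hδ]
    funext j
    simp only [r, LinearMap.compLeft_apply, Function.comp_apply, Pi.single_apply, Algebra.linearMap_apply]
    split_ifs <;> simp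
  let Δ := LinearMap.liftBaseChange Γ(Y, T.1) δ
  have h1 : ∀ b, Δ (Ψ b) = b := fun b => by
    rw [Fintype.linearCombination_apply, map_sum]
    simp only [map_smul, Δ, LinearMap.liftBaseChange_tmul, one_smul, hδi]
    funext j
    simp [Finset.sum_apply, Pi.single_apply]
  have hΨ : Function.Bijective Ψ := by
    refine ⟨fun b b' h => by rw [← h1 b, ← h1 b', h], fun z => ?_⟩
    induction z using TensorProduct.induction_on with
    | zero => exact ⟨0, map_zero _⟩
    | add z w hz hw =>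
      obtain ⟨a, rfl⟩ := hz
      obtain ⟨b, rfl⟩ := hw
      exact ⟨a + b, map_add _ _ _⟩
    | tmul b m =>
      obtain ⟨a, rfl⟩ := hsurj m
      refine ⟨fun k => a k • b, ?_⟩
      rw [Fintype.linearCombination_apply, Fintype.linearCombination_apply, TensorProduct.tmul_sum]
      refine Finset.sum_congr rfl fun k _ => ?_
      rw [TensorProduct.smul_tmul', TensorProduct.tmul_smul, TensorProduct.smul_tmul', smul_eq_mul, mul_one]
  exact ⟨(LinearEquiv.ofBijective Ψ hΨ).trans (LinearEquiv.ofBijective _ hb)⟩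

theorem isQuasicoherent_sigma {X : Scheme.{u}} {r : ℕ} (M : Fin r → X.Modules) (hM : ∀ l, (M l).IsQuasicoherent) :
    (∐ M).IsQuasicoherent :=
  @QCoh.isQuasicoherent_of_iso _ _ _
    (Sigma.whiskerEquiv (f := fun l : ULift.{u} (Fin r) => M l.down) (g := M) Equiv.ulift fun _ => Iso.refl _)
    (QCoh.isQuasicoherent_colimit (Discrete.functor fun l : ULift.{u} (Fin r) => M l.down) fun l => hM l.as.down)

/-- The sections of a finite coproduct over an open. -/
theorem exists_sigma_equiv {X : Scheme.{u}} {r : ℕ} (M : Fin r → X.Modules) (T : X.Opens) :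
    Nonempty (((l : Fin r) → Γ(M l, T)) ≃ₗ[Γ(X, T)] Γ(∐ M, T)) := by
  classical
  refine ⟨LinearEquiv.ofBijective (∑ l, (QCoh.appLinear (Sigma.ι M l) T).comp (LinearMap.proj l)) ⟨fun a b h => ?_, fun m => ?_⟩⟩
  · funext k
    have hpr : ∀ c : (l : Fin r) → Γ(M l, T), (Koszul12.sigmaPr M k).app T
        ((∑ l, (QCoh.appLinear (Sigma.ι M l) T).comp (LinearMap.proj l) : _ →ₗ[Γ(X, T)] _) c) = c k := fun c => by
      rw [LinearMap.sum_apply, map_sum, Finset.sum_eq_single k]
      · show (Sigma.ι M k ≫ Koszul12.sigmaPr M k).app T _ = _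
        rw [Koszul12.ι_sigmaPr_self]; rfl
      · intro l _ hl
        show (Sigma.ι M l ≫ Koszul12.sigmaPr M k).app T _ = 0
        rw [Koszul12.ι_sigmaPr_ne M hl]; rfl
      · simp
    rw [← hpr a, ← hpr b, h]
  · refine ⟨fun l => (Koszul12.sigmaPr M l).app T m, ?_⟩
    rw [LinearMap.sum_apply]
    show ∑ l, (Koszul12.sigmaPr M l ≫ Sigma.ι M l).app T m = m
    rw [← FinCov.sum_app, Koszul12.sum_sigmaPr_ι]
    rfl

theorem nonempty_iso {r : ℕ} (J : Fin r → P.IdealSheafData) (I : P.IdealSheafData) (hI : I ≤ i.ker)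
    (hIJ : ∀ U : P.affineOpens, I.ideal U = ⨆ l, (J l).ideal U) (d : Fin r → ℕ)
    (hJ : ∀ (y : Y) l, ∃ U : P.affineOpens, i y ∈ U.1 ∧ ∃ f : Fin (d l) → Γ(P, U.1),
      (J l).ideal U = Ideal.span (Set.range f) ∧ ∀ a : Fin (d l) → Γ(P, U.1), ∑ k, a k * f k = 0 → ∀ k, a k ∈ (J l).ideal U)
    (hi : ∀ y : Y, ∃ U : P.affineOpens, i y ∈ U.1 ∧ ∃ f : Fin (∑ l, d l) → Γ(P, U.1),
      I.ideal U = Ideal.span (Set.range f) ∧ ∀ a : Fin (∑ l, d l) → Γ(P, U.1), ∑ k, a k * f k = 0 → ∀ k, a k ∈ I.ideal U) :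
    Nonempty ((Scheme.Modules.pullback i).obj (ClSub.idealMod I) ≅
      ∐ fun l => (Scheme.Modules.pullback i).obj (ClSub.idealMod (J l))) := by
  classical
  have hle : ∀ l, J l ≤ I := fun l U => (hIJ U).symm ▸ le_iSup (fun l => (J l).ideal U) l
  let G := Scheme.Modules.pullback i
  let D : (∐ fun l => ClSub.idealMod (J l)) ⟶ ClSub.idealMod I := Sigma.desc fun l => Koszul12.incl (hle l)
  haveI : Epi D := by
    refine ⟨fun {Q} a b hab => VA.hom_ext_affine fun U e => ?_⟩
    let U' : P.affineOpens := ⟨U.1, U.2⟩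
    have key : ∀ x ∈ I.ideal U', ∃ e : Γ(ClSub.idealMod I, U'.1), IdealModSec.val I U'.1 e = x ∧
        a.app U'.1 e = b.app U'.1 e := by
      intro x hx
      rw [hIJ] at hx
      refine Submodule.iSup_induction (fun l => (J l).ideal U') (motive := fun x => ∃ e : Γ(ClSub.idealMod I, U'.1),
        IdealModSec.val I U'.1 e = x ∧ a.app U'.1 e = b.app U'.1 e) hx (fun l x hx => ?_)
        ⟨0, IdealModSec.val_zero I _, by rw [map_zero, map_zero]⟩
        (fun x y ⟨e, he, he'⟩ ⟨e', hd, hd'⟩ => ⟨e + e', by unfold IdealModSec.val at he hd ⊢; rw [map_add]; exact congrArg₂ (· + ·) he hd,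
          by rw [map_add, map_add, he', hd']⟩)
      obtain ⟨m, hm⟩ := IdealModSec.exists_val_eq (J l) U' hx
      refine ⟨(Koszul12.incl (hle l)).app U'.1 m, by rw [Koszul12.val_incl, hm], ?_⟩
      have h2 : Koszul12.incl (hle l) ≫ a = Koszul12.incl (hle l) ≫ b := by
        rw [← Sigma.ι_desc (fun l => Koszul12.incl (hle l)) l, Category.assoc, Category.assoc]
        exact congrArg (Sigma.ι (fun l => ClSub.idealMod (J l)) l ≫ ·) hab
      exact ConcreteCategory.congr_hom (congrArg (fun φ => Scheme.Modules.Hom.app φ U'.1) h2) m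
    obtain ⟨e', he, he'⟩ := key _ (IdealModSec.val_mem I U' e)
    exact IdealModSec.val_injective I _ he ▸ he'
  let M := fun l => G.obj (ClSub.idealMod (J l))
  let φ : (∐ M) ⟶ G.obj (ClSub.idealMod I) := Sigma.desc fun l => G.map (Koszul12.incl (hle l))
  haveI : PreservesColimitsOfSize.{0, 0} G := (Scheme.Modules.pullbackPushforwardAdjunction i).leftAdjoint_preservesColimits
  haveI : Epi φ := by
    have : φ = (PreservesCoproduct.iso G fun l => ClSub.idealMod (J l)).inv ≫ G.map D := by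
      refine Sigma.hom_ext _ _ fun l => ?_
      rw [PreservesCoproduct.inv_hom, ι_comp_sigmaComparison_assoc, ← G.map_comp, Sigma.ι_desc, Sigma.ι_desc]
    rw [this]
    haveI := (Scheme.Modules.pullbackPushforwardAdjunction i).leftAdjoint_preservesColimits
    haveI : Epi (G.map D) := G.map_epi D
    infer_instance
  haveI : ∀ l, (M l).IsQuasicoherent := fun l =>
    haveI := H1Sheaf6.isQuasicoherent_idealMod (J l)
    FittSheaf.isQuasicoherent_pullback i _
  haveI : (∐ M).IsQuasicoherent := isQuasicoherent_sigma M inferInstance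
  haveI : (G.obj (ClSub.idealMod I)).IsQuasicoherent :=
    haveI := H1Sheaf6.isQuasicoherent_idealMod I
    FittSheaf.isQuasicoherent_pullback i _
  choose U₀ hU₀ f₀ hs₀ hr₀ using hi
  choose U hU f hs hr using hJ
  have hTex : ∀ y : Y, ∃ T : Y.affineOpens, y ∈ T.1 ∧ T.1 ≤ i ⁻¹ᵁ (U₀ y).1 ∧ ∀ l, T.1 ≤ i ⁻¹ᵁ (U y l).1 := fun y => by
    let O : Y.Opens := i ⁻¹ᵁ (U₀ y).1 ⊓ Finset.univ.inf fun l => i ⁻¹ᵁ (U y l).1
    have hy : y ∈ O := by
      refine ⟨hU₀ y, ?_⟩
      show y ∈ ((Finset.univ.inf fun l => i ⁻¹ᵁ (U y l).1 : Y.Opens) : Set Y)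
      rw [TopologicalSpace.Opens.coe_finset_inf]
      simpa using fun l => hU y l
    obtain ⟨_, ⟨T, hT, rfl⟩, hyT, hle⟩ := Y.isBasis_affineOpens.exists_subset_of_mem_open
      (show y ∈ (O : Set Y) from hy) O.2
    have hle' : T ≤ O := hle
    exact ⟨⟨T, hT⟩, hyT, hle'.trans inf_le_left, fun l => hle'.trans (inf_le_right.trans (Finset.inf_le (Finset.mem_univ l)))⟩
  choose T hyT hT₀ hTl using hTex
  haveI : IsIso φ := by
    refine QCoh.isIso_of_bijective_on_cover φ (fun y => (T y).1) ?_ (fun y => (T y).2) fun y => ?_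
    · refine top_le_iff.1 fun y _ => Opens.mem_iSup.2 ⟨y, hyT y⟩
    · obtain ⟨eN⟩ := exists_equiv_sections i I hI (U₀ y) (f₀ y) (hs₀ y) (hr₀ y) (T y) (hT₀ y)
      have eM := fun l => (exists_equiv_sections i (J l) ((hle l).trans hI) (U y l) (f y l) (hs y l) (hr y l) (T y) (hTl y l)).some
      obtain ⟨eS⟩ := exists_sigma_equiv M (T y).1
      let e : (Fin (∑ l, d l) → Γ(Y, (T y).1)) ≃ₗ[Γ(Y, (T y).1)] Γ(∐ M, (T y).1) :=
        (LinearEquiv.funCongrLeft _ _ finSigmaFinEquiv) ≪≫ₗ
          LinearEquiv.piCurry Γ(Y, (T y).1) (fun (_ : Fin r) (_ : Fin (d _)) => Γ(Y, (T y).1)) ≪≫ₗ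
          LinearEquiv.piCongrRight eM ≪≫ₗ eS
      haveI : (kernel φ).IsQuasicoherent := QCoh.isQuasicoherent_kernel φ
      have hsurj : Function.Surjective (φ.app (T y).1) :=
        QCoh.app_surjective_of_isAffineOpen (S := ShortComplex.mk (kernel.ι φ) φ (kernel.condition φ))
          { exact := ShortComplex.exact_of_f_is_kernel _ (kernelIsKernel φ) } (T y).2
      let g := eN.symm.toLinearMap ∘ₗ QCoh.appLinear φ (T y).1 ∘ₗ e.toLinearMap
      have hg : Function.Bijective g := OrzechProperty.bijective_of_surjective_endomorphism g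
        (eN.symm.surjective.comp (hsurj.comp e.surjective))
      have h2 : ∀ m, φ.app (T y).1 m = eN (g (e.symm m)) := fun m => by
        show _ = eN (eN.symm (φ.app (T y).1 (e (e.symm m))))
        rw [LinearEquiv.apply_symm_apply, LinearEquiv.apply_symm_apply]
      rw [show ⇑(φ.app (T y).1) = ⇑eN ∘ ⇑g ∘ ⇑e.symm from funext h2]
      exact eN.bijective.comp (hg.comp e.symm.bijective)
  exact ⟨(asIso φ).symm⟩

end GrothLib.RegImm12
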