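import Groth.Agent.Lib.RegImm12.Descend
import Groth.Agent.Lib.RegImm12.ConormalInter
import Groth.Agent.Lib.BCCoh.PullSec
import Groth.Agent.Lib.CohPullLib.SecPull
import Groth.Agent.Lib.PPGen.DiffBasic
import Groth.Agent.Lib.AssPts.Points
import Groth.Agent.Lib.Adj27.SmoothExt
import Groth.Agent.S9325
import Groth.Prelude.Def_Omega3

/-!
# The conormal sequence of an H1 regular immersion
-/

set_option autoImplicit false
set_option linter.all false
set_option maxHeartbeats 1000000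
set_option backward.isDefEq.respectTransparency false
set_option backward.isDefEq.respectTransparency.types false
universe u

open CategoryTheory CategoryTheory.Limits AlgebraicGeometry Opposite TopologicalSpace TensorProduct

noncomputable section

namespace GrothLib.RegImm12

open GrothLib.InvExt (mres)
open GrothLib.BCCoh (pullRes)
open GrothLib.IdealModSec (val)
open OmegaSh (conormalSect pullSect)

theorem mres_le_self {X : Scheme.{u}} (M : X.Modules) {U : X.Opens} (h : U ≤ U) (m : Γ(M, U)) :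
    M.presheaf.map (homOfLE h).op m = m := InvExt.mres_self M m

/-- A short complex of modules which is exact on arbitrarily small opens is short exact. -/
theorem shortExact_of_small {Z : Scheme.{u}} (S : ShortComplex Z.Modules)
    (h : ∀ (x : Z) (O : Z.Opens), x ∈ O → ∃ W : Z.Opens, x ∈ W ∧ W ≤ O ∧ Function.Injective (S.f.app W) ∧
      Function.Surjective (S.g.app W) ∧ ∀ m, S.g.app W m = 0 → ∃ l, S.f.app W l = m) : S.ShortExact := by
  haveI : Mono S.f := ⟨fun {Q} a b hab => Scheme.Modules.hom_ext _ _ fun V => ConcreteCategory.hom_ext _ _ fun m => by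
    choose W hxW hWV hinj _ _ using fun x : V => h x.1 V x.2
    refine Ample.meq_of_cover S.X₁ W hWV (fun y hy => Opens.mem_iSup.2 ⟨⟨y, hy⟩, hxW _⟩) fun x => hinj x ?_
    rw [Ample.app_mres, Ample.app_mres]
    exact congrArg (mres S.X₂ (hWV x)) (ConcreteCategory.congr_hom (congrArg (fun φ => Scheme.Modules.Hom.app φ V) hab) m)⟩
  haveI : Epi S.g := ⟨fun {Q} a b hab => Scheme.Modules.hom_ext _ _ fun V => ConcreteCategory.hom_ext _ _ fun m => by
    choose W hxW hWV _ hsur _ using fun x : V => h x.1 V x.2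
    refine Ample.meq_of_cover Q W hWV (fun y hy => Opens.mem_iSup.2 ⟨⟨y, hy⟩, hxW _⟩) fun x => ?_
    obtain ⟨l, hl⟩ := hsur x (mres S.X₃ (hWV x) m)
    rw [← Ample.app_mres, ← Ample.app_mres, ← hl]
    exact ConcreteCategory.congr_hom (congrArg (fun φ => Scheme.Modules.Hom.app φ (W x)) hab) l⟩
  let k : S.X₁ ⟶ kernel S.g := kernel.lift S.g S.f S.zero
  haveI : IsIso k := H1Sheaf6.isIso_of_bijective_small k fun x O hx => by
    obtain ⟨W, hxW, hWO, hinj, -, hex⟩ := h x O hx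
    have hk : ∀ l, (kernel.ι S.g).app W (k.app W l) = S.f.app W l := fun l => by
      show (k ≫ kernel.ι S.g).app W l = _
      rw [kernel.lift_ι]
    refine ⟨W, hxW, hWO, fun l l' e => hinj (by rw [← hk, ← hk, e]), fun z => ?_⟩
    obtain ⟨hι, -⟩ := IdealModSec.app_kernel S.g W
    obtain ⟨l, hl⟩ := hex ((kernel.ι S.g).app W z) (by
      show (kernel.ι S.g ≫ S.g).app W z = 0
      rw [kernel.condition]; rfl)
    exact ⟨l, hι ((hk l).trans hl)⟩
  exact
    { exact := ShortComplex.exact_of_f_is_kernel _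
        (IsKernel.isoKernel S.g S.f (kernelIsKernel S.g) (asIso k) (kernel.lift_ι _ _ _)) }

section Sections

variable {Z X : Scheme.{u}} (i : Z ⟶ X) {V : X.Opens} (hV : IsAffineOpen V) (hU : IsAffineOpen (i ⁻¹ᵁ V))
  (hφ : Function.Surjective (i.app V))

include hV hU hφ

/-- Pulled back sections of a quasi-coherent module along a surjection on sections. -/
theorem pullSect_surjective_and_ker (F : X.Modules) [F.IsQuasicoherent] :
    Function.Surjective (pullSect i F V) ∧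
      ∀ m, pullSect i F V m = 0 ↔ m ∈ RingHom.ker (i.app V).hom • (⊤ : Submodule Γ(X, V) Γ(F, V)) := by
  let φ := (i.appLE V (i ⁻¹ᵁ V) le_rfl).hom
  have hφe : φ = (i.app V).hom := by rw [Scheme.Hom.app_eq_appLE]
  letI : Algebra Γ(X, V) Γ(Z, i ⁻¹ᵁ V) := φ.toAlgebra
  letI : Module Γ(X, V) Γ((Scheme.Modules.pullback i).obj F, i ⁻¹ᵁ V) := Module.compHom _ φ
  haveI : IsScalarTower Γ(X, V) Γ(Z, i ⁻¹ᵁ V) Γ((Scheme.Modules.pullback i).obj F, i ⁻¹ᵁ V) :=
    IsScalarTower.of_algebraMap_smul fun _ _ => rfl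
  obtain ⟨p, hp, hps⟩ := BCCoh.isBaseChange_pullRes i F hV hU (le_refl (i ⁻¹ᵁ V))
  have hps' : ∀ m, p m = pullSect i F V m := fun m => by
    rw [hps, CohPullLib.pullRes_def]
    exact mres_le_self _ _ _
  have hs : Function.Surjective (algebraMap Γ(X, V) Γ(Z, i ⁻¹ᵁ V)) := by
    show Function.Surjective φ
    rw [hφe]; exact hφ
  let I := RingHom.ker (algebraMap Γ(X, V) Γ(Z, i ⁻¹ᵁ V))
  have hI : I = RingHom.ker (i.app V).hom := congrArg RingHom.ker hφe
  let eB : (Γ(X, V) ⧸ I) ≃ₗ[Γ(X, V)] Γ(Z, i ⁻¹ᵁ V) :=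
    (Ideal.quotientKerAlgEquivOfSurjective (f := Algebra.ofId Γ(X, V) Γ(Z, i ⁻¹ᵁ V)) hs).toLinearEquiv
  let e : (Γ(F, V) ⧸ I • (⊤ : Submodule Γ(X, V) Γ(F, V))) ≃ₗ[Γ(X, V)] Γ((Scheme.Modules.pullback i).obj F, i ⁻¹ᵁ V) :=
    (TensorProduct.quotTensorEquivQuotSMul Γ(F, V) I).symm ≪≫ₗ TensorProduct.congr eB (LinearEquiv.refl _ _) ≪≫ₗ
      hp.equiv.restrictScalars Γ(X, V)
  have he : ∀ m, e (Submodule.Quotient.mk m) = p m := fun m => by
    simp only [e, LinearEquiv.trans_apply, TensorProduct.quotTensorEquivQuotSMul_symm_mk, TensorProduct.congr_tmul,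
      LinearEquiv.restrictScalars_apply]
    rw [show eB (1 : Γ(X, V) ⧸ I) = 1 from map_one (Ideal.quotientKerAlgEquivOfSurjective (f := Algebra.ofId Γ(X, V) Γ(Z, i ⁻¹ᵁ V)) hs)]
    exact (hp.equiv_tmul 1 m).trans (one_smul _ _)
  refine ⟨fun z => ?_, fun m => ?_⟩
  · obtain ⟨q, hq⟩ := e.surjective z
    obtain ⟨m, rfl⟩ := Submodule.Quotient.mk_surjective _ q
    exact ⟨m, by rw [← hps', ← he, hq]⟩
  · rw [← hps', ← he, LinearEquiv.map_eq_zero_iff, Submodule.Quotient.mk_eq_zero, hI]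

/-- The kernel of the class map of the ideal. -/
theorem conormalSect_eq_zero_iff [QuasiCompact i] (m : Γ(ClSub.idealMod i.ker, V)) :
    conormalSect i V m = 0 ↔ val i.ker V m ∈ RingHom.ker (i.app V).hom ^ 2 := by
  haveI := H1Sheaf6.isQuasicoherent_idealMod i.ker
  rw [OmegaSh.conormalSect_eq]
  refine ((pullSect_surjective_and_ker i hV hU hφ _).2 m).trans ⟨fun hm => ?_, fun hm => ?_⟩
  · refine Submodule.smul_induction_on hm (fun c hc n _ => ?_) fun a b ha hb => ?_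
    · rw [IdealModSec.val_smul, pow_two]
      refine Ideal.mul_mem_mul hc ?_
      have := IdealModSec.val_mem i.ker ⟨V, hV⟩ n
      rwa [i.ker_apply] at this
    · show (ClSub.idealModι i.ker).app V (a + b) ∈ _
      rw [map_add]
      exact add_mem ha hb
  · rw [pow_two] at hm
    suffices H : ∃ n ∈ RingHom.ker (i.app V).hom • (⊤ : Submodule Γ(X, V) Γ(ClSub.idealMod i.ker, V)),
        val i.ker V n = val i.ker V m by
      obtain ⟨n, hn, hnm⟩ := H
      exact IdealModSec.val_injective _ _ hnm ▸ hn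
    refine Submodule.mul_induction_on hm (fun c hc d hd => ?_) ?_
    · obtain ⟨k, hk⟩ := IdealModSec.exists_val_eq i.ker ⟨V, hV⟩ (a := d) (by rw [i.ker_apply]; exact hd)
      exact ⟨c • k, Submodule.smul_mem_smul hc trivial, by rw [IdealModSec.val_smul, hk]⟩
    · rintro a b ⟨n, hn, rfl⟩ ⟨n', hn', rfl⟩
      exact ⟨n + n', add_mem hn hn', map_add _ n n'⟩

end Sections

/-- An `H_1`-regular sequence on a basic open. -/
theorem exists_seq_basicOpen {Z Y : Scheme.{u}} (i : Z ⟶ Y) {U : Y.Opens} (hU : IsAffineOpen U)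
    (hci : IsClosedImmersion (i ∣_ U)) (rs : List Γ(Y, U)) (hrs : CAlgX.IsH1Regular rs.get)
    (hker : RingHom.ker (i.app U).hom = Ideal.ofList rs) (g : Γ(Y, U)) (W : Y.Opens) (hW : W = Y.basicOpen g) :
    ∃ F : Fin rs.length → Γ(Y, W), CAlgX.IsH1Regular F ∧ Ideal.span (Set.range F) = RingHom.ker (i.app W).hom := by
  subst hW
  refine ⟨(Y.presheaf.map (homOfLE (Y.basicOpen_le g)).op).hom ∘ rs.get,
    GrothLib.SeqKinds.isH1Regular_map _ (flat_res_basicOpen hU g) _ hrs, ?_⟩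
  rw [(chart_basicOpen i hU hci g).2, hker, show Ideal.ofList rs = Ideal.span (Set.range rs.get) by
    rw [Set.range_list_get], Ideal.map_span, ← Set.range_comp]

theorem isFinLocFree_conormal_of_h1 {Z Y : Scheme.{u}} (i : Z ⟶ Y) [QuasiCompact i]
    (hi : RegImm.IsRegularImmersion RegImm.Kind.h1 i) : FlatMod.IsFinLocFree (Omega.conormal i) := by
  classical
  refine Adj27.isFinLocFree_of_frames fun z => ?_
  obtain ⟨U, hzU, hci, rs, hrs, hker⟩ := hi.2 z
  obtain ⟨hsur, hT⟩ := GrothLib.RegSeqLoc.app_surjective_of_restrict i U.2 hci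
  have hs : i.ker.ideal U = Ideal.span (Set.range rs.get) := by
    rw [i.ker_apply, hker, Set.range_list_get]
  obtain ⟨e⟩ : Nonempty ((Fin rs.length → Γ(Z, i ⁻¹ᵁ U.1)) ≃ₗ[Γ(Z, i ⁻¹ᵁ U.1)] Γ(Omega.conormal i, i ⁻¹ᵁ U.1)) :=
    exists_equiv_sections i i.ker le_rfl U rs.get hs
      (fun a ha k => hs ▸ mem_span_of_h1 hrs ha k) ⟨i ⁻¹ᵁ U.1, hT⟩ le_rfl
  haveI := H1Sheaf6.isQuasicoherent_idealMod i.ker
  haveI : (Omega.conormal i).IsQuasicoherent := FittSheaf.isQuasicoherent_pullback i _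
  refine ⟨i ⁻¹ᵁ U.1, rs.length, fun k => e (Pi.single k 1), hzU, Adj27.isFrame_of_affine _ hT _ ?_⟩
  have : ⇑(Fintype.linearCombination Γ(Z, i ⁻¹ᵁ U.1) fun k => e (Pi.single k 1)) = ⇑e := funext fun b => by
    rw [Fintype.linearCombination_apply]
    simp only [← map_smul, ← map_sum]
    congr 1
    funext k
    simp [Finset.sum_apply, Pi.single_apply]
  show Function.Bijective ⇑(Fintype.linearCombination Γ(Z, i ⁻¹ᵁ U.1) fun k => e (Pi.single k 1))
  rw [this]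
  exact e.bijective

variable {Z Y X : Scheme.{u}} (i : Z ⟶ Y) (j : Y ⟶ X)

/-- Small charts for a composition of immersions. -/
theorem exists_chart [IsImmersion i] [IsImmersion j] (z : Z) (O : Z.Opens) (hz : z ∈ O) :
    ∃ V : X.Opens, IsAffineOpen V ∧ (i ≫ j) z ∈ V ∧ (i ≫ j) ⁻¹ᵁ V ≤ O ∧ IsClosedImmersion ((i ≫ j) ∣_ V) ∧
      IsClosedImmersion (j ∣_ V) ∧ IsClosedImmersion (i ∣_ (j ⁻¹ᵁ V)) := by
  obtain ⟨V1, hzV1, hc1⟩ := GrothLib.RegSeqLoc.exists_affine_isClosedImmersion (i ≫ j) z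
  obtain ⟨V2, hzV2, hc2⟩ := GrothLib.RegSeqLoc.exists_affine_isClosedImmersion j (i z)
  obtain ⟨f, g, hfg, hzf⟩ := exists_basicOpen_le_affine_inter V1.2 V2.2 ((i ≫ j) z) ⟨hzV1, hzV2⟩
  obtain ⟨O', hO', hOeq⟩ := (i ≫ j).isEmbedding.isInducing.isOpen_iff.1 O.2
  have hzO : (i ≫ j) z ∈ O' := by
    show z ∈ (i ≫ j) ⁻¹' O'
    rw [hOeq]; exact hz
  obtain ⟨c, hcO, hzc⟩ := (V1.2.basicOpen f).exists_basicOpen_le (V := ⟨O', hO'⟩) ⟨(i ≫ j) z, hzO⟩ hzf
  have h1 := (chart_basicOpen (i ≫ j) (V1.2.basicOpen f) (chart_basicOpen (i ≫ j) V1.2 hc1 f).1 c).1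
  have h2 : IsClosedImmersion (j ∣_ X.basicOpen c) := by
    obtain ⟨h', -⟩ := chart_basicOpen j V2.2 hc2 g
    have key : ∀ (W : X.Opens) (hWe : W = X.basicOpen g) (c : Γ(X, W)), IsClosedImmersion (j ∣_ X.basicOpen c) := by
      rintro W rfl c
      exact (chart_basicOpen j (V2.2.basicOpen g) h' c).1
    exact key _ hfg c
  refine ⟨X.basicOpen c, (V1.2.basicOpen f).basicOpen c, hzc, fun y hy => hOeq.le (hcO hy), h1, h2, ?_⟩
  rw [morphismRestrict_comp] at h1
  haveI := h1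
  haveI := h2
  exact IsClosedImmersion.of_comp (i ∣_ (j ⁻¹ᵁ X.basicOpen c)) (j ∣_ X.basicOpen c)

theorem exists_small_exact [IsImmersion i] [IsImmersion j] [QuasiCompact i] [QuasiCompact j]
    (a : (Scheme.Modules.pullback i).obj (Omega.conormal j) ⟶ Omega.conormal (i ≫ j))
    (ha : OmegaSh.IsConormalMap (i ≫ j) j (𝟙 X) i a)
    (b : (Scheme.Modules.pullback (𝟙 Z)).obj (Omega.conormal (i ≫ j)) ⟶ Omega.conormal i)
    (hb : OmegaSh.IsConormalMap i (i ≫ j) j (𝟙 Z) b)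
    (O₀ : Z.Opens) (hi : ∀ z ∈ O₀, RegImm.IsRegularImmersionAt RegImm.Kind.h1 i z) :
    ∀ (z : Z) (O : Z.Opens), z ∈ O → O ≤ O₀ → ∃ W : Z.Opens, z ∈ W ∧ W ≤ O ∧ Function.Injective (a.app W) ∧
      Function.Surjective (((Scheme.Modules.pullbackId Z).inv.app (Omega.conormal (i ≫ j)) ≫ b).app W) ∧
      (∀ m, ((Scheme.Modules.pullbackId Z).inv.app (Omega.conormal (i ≫ j)) ≫ b).app W m = 0 → ∃ l, a.app W l = m) ∧
      ∀ l, ((Scheme.Modules.pullbackId Z).inv.app (Omega.conormal (i ≫ j)) ≫ b).app W (a.app W l) = 0 := by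
  set bb := (Scheme.Modules.pullbackId Z).inv.app (Omega.conormal (i ≫ j)) ≫ b with hbbdef
  intro z O hzO hO₀
  obtain ⟨V, hV, hzV, hle, hcij, hcj, hci⟩ := exists_chart i j z O hzO
  obtain ⟨hsij, haij⟩ := GrothLib.RegSeqLoc.app_surjective_of_restrict (i ≫ j) hV hcij
  obtain ⟨hsj, haU⟩ := GrothLib.RegSeqLoc.app_surjective_of_restrict j hV hcj
  obtain ⟨hsi, -⟩ := GrothLib.RegSeqLoc.app_surjective_of_restrict i haU hci
  haveI := H1Sheaf6.isQuasicoherent_idealMod j.ker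
  haveI : (Omega.conormal j).IsQuasicoherent := FittSheaf.isQuasicoherent_pullback j _
  have hcomp : ∀ x, (i ≫ j).app V x = i.app (j ⁻¹ᵁ V) (j.app V x) := fun x => by rw [Scheme.Hom.comp_app]; rfl
  set Iⱼ := RingHom.ker (j.app V).hom with hIj
  set J := RingHom.ker ((i ≫ j).app V).hom with hJ
  have hIJ : Iⱼ ≤ J := fun x hx => by
    rw [hJ, RingHom.mem_ker]
    show (i ≫ j).app V x = 0
    rw [hcomp, show j.app V x = 0 from hx, map_zero]
  have hkeri : RingHom.ker (i.app (j ⁻¹ᵁ V)).hom = J.map (j.app V).hom := by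
    refine le_antisymm (fun y hy => ?_) (Ideal.map_le_iff_le_comap.2 fun x hx => ?_)
    · obtain ⟨x, rfl⟩ := hsj y
      exact Ideal.mem_map_of_mem _ (show x ∈ J from (hcomp x).trans hy)
    · exact (hcomp x).symm.trans hx
  -- the identification of `a` and `b` on classes
  have haV : ∀ (m : Γ(ClSub.idealMod j.ker, V)) (m' : Γ(ClSub.idealMod (i ≫ j).ker, V)),
      val (i ≫ j).ker V m' = val j.ker V m →
      a.app (i ⁻¹ᵁ (j ⁻¹ᵁ V)) (pullSect i (Omega.conormal j) (j ⁻¹ᵁ V) (conormalSect j V m)) =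
        conormalSect (i ≫ j) V m' := fun m m' hm => by
    have := ha.2 V m m' hm ((i ≫ j) ⁻¹ᵁ V) le_rfl le_rfl
    exact (mres_le_self _ _ _).symm.trans (this.trans (mres_le_self _ _ _))
  have hbV : ∀ (m : Γ(ClSub.idealMod (i ≫ j).ker, V)) (s : Γ(ClSub.idealMod i.ker, j ⁻¹ᵁ V)),
      val i.ker (j ⁻¹ᵁ V) s = j.app V (val (i ≫ j).ker V m) →
      bb.app ((i ≫ j) ⁻¹ᵁ V) (conormalSect (i ≫ j) V m) = conormalSect i (j ⁻¹ᵁ V) s := fun m s hs => by
    have := hb.2 V m s hs ((i ≫ j) ⁻¹ᵁ V) le_rfl le_rfl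
    show b.app _ (((Scheme.Modules.pullbackId Z).inv.app (Omega.conormal (i ≫ j))).app _ (conormalSect (i ≫ j) V m)) = _
    rw [PPGen.pullbackId_inv_app]
    exact (mres_le_self _ _ _).symm.trans (this.trans (mres_le_self _ _ _))
  have hlift : ∀ m : Γ(ClSub.idealMod j.ker, V), ∃ m' : Γ(ClSub.idealMod (i ≫ j).ker, V),
      val (i ≫ j).ker V m' = val j.ker V m := fun m => by
    refine IdealModSec.exists_val_eq (i ≫ j).ker ⟨V, hV⟩ ?_
    rw [Scheme.Hom.ker_apply]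
    exact hIJ (H1Sheaf6.app_val_eq_zero j V m)
  have hlifts : ∀ m : Γ(ClSub.idealMod (i ≫ j).ker, V), ∃ s : Γ(ClSub.idealMod i.ker, j ⁻¹ᵁ V),
      val i.ker (j ⁻¹ᵁ V) s = j.app V (val (i ≫ j).ker V m) := fun m => by
    refine IdealModSec.exists_val_eq i.ker ⟨j ⁻¹ᵁ V, haU⟩ ?_
    rw [Scheme.Hom.ker_apply, RingHom.mem_ker]
    exact (hcomp _).symm.trans (H1Sheaf6.app_val_eq_zero (i ≫ j) V m)
  have hgen1 : ∀ l, ∃ m : Γ(ClSub.idealMod j.ker, V),
      pullSect i (Omega.conormal j) (j ⁻¹ᵁ V) (conormalSect j V m) = l := fun l => by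
    obtain ⟨t, rfl⟩ := (pullSect_surjective_and_ker i haU haij hsi _).1 l
    obtain ⟨m, rfl⟩ := (pullSect_surjective_and_ker j hV haU hsj _).1 t
    exact ⟨m, rfl⟩
  haveI := H1Sheaf6.isQuasicoherent_idealMod (i ≫ j).ker
  haveI := H1Sheaf6.isQuasicoherent_idealMod i.ker
  have hgen2 : ∀ l, ∃ m : Γ(ClSub.idealMod (i ≫ j).ker, V), conormalSect (i ≫ j) V m = l :=
    (pullSect_surjective_and_ker (i ≫ j) hV haij hsij _).1
  have hgen3 : ∀ l, ∃ m : Γ(ClSub.idealMod i.ker, j ⁻¹ᵁ V), conormalSect i (j ⁻¹ᵁ V) m = l :=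
    (pullSect_surjective_and_ker i haU haij hsi _).1
  -- the algebra
  have hinter : Iⱼ ⊓ J ^ 2 = Iⱼ * J := by
    refine Groth.Agent.S9325.result Iⱼ J hIJ fun 𝔮 h𝔮 hle' => ?_
    let e : (Γ(X, V) ⧸ Iⱼ) ≃+* Γ(Y, j ⁻¹ᵁ V) := RingHom.quotientKerEquivOfSurjective hsj
    have he : e.toRingHom.comp (Ideal.Quotient.mk Iⱼ) = (j.app V).hom := RingHom.ext fun x => rfl
    haveI : (𝔮.comap e.symm.toRingHom).IsPrime := Ideal.comap_isPrime _ _
    have hk : RingHom.ker (i.app (j ⁻¹ᵁ V)).hom ≤ 𝔮.comap e.symm.toRingHom := by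
      rw [hkeri, Ideal.map_le_iff_le_comap]
      intro x hx
      show e.symm (j.app V x) ∈ 𝔮
      rw [show j.app V x = e (Ideal.Quotient.mk Iⱼ x) from rfl, RingEquiv.symm_apply_apply]
      exact hle' (Ideal.mem_map_of_mem _ hx)
    let Q' : PrimeSpectrum Γ(Y, j ⁻¹ᵁ V) := ⟨𝔮.comap e.symm.toRingHom, inferInstance⟩
    obtain ⟨Q, hQ⟩ : Q' ∈ Set.range (PrimeSpectrum.comap (i.app (j ⁻¹ᵁ V)).hom) := by
      rw [range_comap_of_surjective _ _ hsi]; exact hk
    obtain ⟨z', hz', hzQ⟩ := AssPts.exists_point haij Q.asIdeal Q.2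
    obtain ⟨U0, hzU0, hc0, rs, hrs, hker⟩ := hi z' (hO₀ (hle hz'))
    obtain ⟨g, f, hgf, hzg⟩ := exists_basicOpen_le_affine_inter haU U0.2 (i z') ⟨hz', hzU0⟩
    refine ⟨e.symm g, fun hg => ?_, rs.length, ?_⟩
    · have h1 : g ∈ (PrimeSpectrum.comap (i.app (j ⁻¹ᵁ V)).hom Q).asIdeal := by rw [hQ]; exact hg
      have h1' : i.app (j ⁻¹ᵁ V) g ∈ WeakAss.primeAt z' hz' := by rw [hzQ]; exact h1
      refine absurd ?_ (not_not_intro h1')
      rw [WeakAss.notMem_primeAt_iff, ← Scheme.preimage_basicOpen]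
      exact hzg
    · obtain ⟨F, hF, hFs⟩ := exists_seq_basicOpen i U0.2 hc0 rs hrs hker f _ hgf
      haveI := haU.isLocalization_basicOpen g
      let θ : Localization.Away (e.symm g) ≃+* Γ(Y, Y.basicOpen g) :=
        IsLocalization.ringEquivOfRingEquiv (M := Submonoid.powers (e.symm g)) (T := Submonoid.powers g)
          (Localization.Away (e.symm g)) Γ(Y, Y.basicOpen g) e
          ((Submonoid.map_powers (e : (Γ(X, V) ⧸ Iⱼ) ≃+* _).toMonoidHom (e.symm g)).trans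
            (congrArg Submonoid.powers (e.apply_symm_apply g)))
      refine ⟨θ.symm.toRingHom ∘ F, GrothLib.SeqKinds.isH1Regular_map _
        (RingHom.Flat.of_bijective θ.symm.bijective) F hF, ?_⟩
      rw [Set.range_comp, ← Ideal.map_span, hFs, (chart_basicOpen i haU hci g).2, hkeri, Ideal.map_map, Ideal.map_map,
        Ideal.map_map]
      congr 1
      refine RingHom.ext fun x => θ.injective ((θ.apply_symm_apply _).trans ?_)
      show _ = θ (algebraMap Γ(X, V) _ x)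
      rw [IsScalarTower.algebraMap_apply Γ(X, V) (Γ(X, V) ⧸ Iⱼ) (Localization.Away (e.symm g)),
        IsLocalization.ringEquivOfRingEquiv_eq]
      rfl
  refine ⟨(i ≫ j) ⁻¹ᵁ V, hzV, hle, ?_, ?_, ?_, ?_⟩
  · refine (injective_iff_map_eq_zero _).2 fun l hl => ?_
    obtain ⟨m, rfl⟩ := hgen1 l
    obtain ⟨m', hm'⟩ := hlift m
    have hl' : conormalSect (i ≫ j) V m' = 0 := (haV m m' hm').symm.trans hl
    rw [conormalSect_eq_zero_iff (i ≫ j) hV haij hsij, hm'] at hl'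
    have hmem : val j.ker V m ∈ Iⱼ * J := hinter ▸ ⟨H1Sheaf6.app_val_eq_zero j V m, hl'⟩
    rw [mul_comm] at hmem
    suffices H : ∃ n : Γ(ClSub.idealMod j.ker, V), val j.ker V n = val j.ker V m ∧
        pullSect i (Omega.conormal j) (j ⁻¹ᵁ V) (conormalSect j V n) = 0 by
      obtain ⟨n, hn, hn0⟩ := H
      rwa [← IdealModSec.val_injective _ _ hn]
    refine Submodule.mul_induction_on hmem (fun c hc d hd => ?_) ?_
    · obtain ⟨k, hk⟩ := IdealModSec.exists_val_eq j.ker ⟨V, hV⟩ (a := d) (by rw [Scheme.Hom.ker_apply]; exact hd)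
      refine ⟨c • k, by rw [IdealModSec.val_smul, hk], ?_⟩
      refine ((pullSect_surjective_and_ker i haU haij hsi _).2 _).2 ?_
      have : conormalSect j V (c • k) = j.app V c • conormalSect j V k := by
        obtain ⟨-, -⟩ := (⟨trivial, trivial⟩ : True ∧ True)
        exact ((Scheme.Modules.pullbackPushforwardAdjunction j).unit.app (ClSub.idealMod j.ker)).app_smul c k
      rw [this]
      exact Submodule.smul_mem_smul (RingHom.mem_ker.2 ((hcomp c).symm.trans hc)) trivial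
    · rintro x y ⟨n, hn, hn0⟩ ⟨n', hn', hn0'⟩
      refine ⟨n + n', ?_, by rw [map_add, map_add, hn0, hn0', add_zero]⟩
      show (ClSub.idealModι j.ker).app V (n + n') = _
      rw [map_add]
      exact congrArg₂ (· + ·) hn hn'
  · intro l
    obtain ⟨s, rfl⟩ := hgen3 l
    have hs : val i.ker (j ⁻¹ᵁ V) s ∈ J.map (j.app V).hom := hkeri.le (H1Sheaf6.app_val_eq_zero i _ s)
    obtain ⟨x, hx, hxs⟩ := (Ideal.mem_map_iff_of_surjective _ hsj).1 hs
    obtain ⟨m, hm⟩ := IdealModSec.exists_val_eq (i ≫ j).ker ⟨V, hV⟩ (a := x) (by rw [Scheme.Hom.ker_apply]; exact hx)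
    exact ⟨_, hbV m s (by rw [hm]; exact hxs.symm)⟩
  · intro l hl
    obtain ⟨m, rfl⟩ := hgen2 l
    obtain ⟨s, hs⟩ := hlifts m
    have h0 : conormalSect i (j ⁻¹ᵁ V) s = 0 := (hbV m s hs).symm.trans hl
    rw [conormalSect_eq_zero_iff i haU haij hsi, hs, hkeri, ← Ideal.map_pow,
      Ideal.mem_map_iff_of_surjective _ hsj] at h0
    obtain ⟨x, hx, hxe⟩ := h0
    obtain ⟨n, hn⟩ := IdealModSec.exists_val_eq (i ≫ j).ker ⟨V, hV⟩ (a := x)
      (by rw [Scheme.Hom.ker_apply]; exact Ideal.pow_le_self two_ne_zero hx)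
    obtain ⟨k, hk⟩ := IdealModSec.exists_val_eq j.ker ⟨V, hV⟩ (a := val (i ≫ j).ker V m - x)
      (by rw [Scheme.Hom.ker_apply, RingHom.mem_ker, map_sub, sub_eq_zero]; exact hxe.symm)
    have hkm : val (i ≫ j).ker V (m - n) = val j.ker V k := by
      show (ClSub.idealModι (i ≫ j).ker).app V (m - n) = _
      rw [map_sub]
      exact (congrArg (val (i ≫ j).ker V m - ·) hn).trans hk.symm
    refine ⟨_, (haV k (m - n) hkm).trans ?_⟩
    have hn0 : conormalSect (i ≫ j) V n = 0 := (conormalSect_eq_zero_iff (i ≫ j) hV haij hsij n).2 (hn.symm ▸ hx)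
    rw [map_sub, hn0, sub_zero]
  · intro l
    obtain ⟨m, rfl⟩ := hgen1 l
    obtain ⟨m', hm'⟩ := hlift m
    refine (congrArg (bb.app _) (haV m m' hm')).trans ((hbV m' 0 ?_).trans (map_zero _))
    rw [IdealModSec.val_zero, hm']
    exact (H1Sheaf6.app_val_eq_zero j V m).symm

theorem main [IsImmersion i] [IsImmersion j] [QuasiCompact i] [QuasiCompact j]
    (a : (Scheme.Modules.pullback i).obj (Omega.conormal j) ⟶ Omega.conormal (i ≫ j))
    (ha : OmegaSh.IsConormalMap (i ≫ j) j (𝟙 X) i a)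
    (b : (Scheme.Modules.pullback (𝟙 Z)).obj (Omega.conormal (i ≫ j)) ⟶ Omega.conormal i)
    (hb : OmegaSh.IsConormalMap i (i ≫ j) j (𝟙 Z) b)
    (hi : RegImm.IsRegularImmersion RegImm.Kind.h1 i) :
    a ≫ ((Scheme.Modules.pullbackId Z).inv.app (Omega.conormal (i ≫ j)) ≫ b) = 0 ∧
      (∀ w : a ≫ ((Scheme.Modules.pullbackId Z).inv.app (Omega.conormal (i ≫ j)) ≫ b) = 0,
        (ShortComplex.mk a ((Scheme.Modules.pullbackId Z).inv.app (Omega.conormal (i ≫ j)) ≫ b) w).ShortExact) := by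
  set bb := (Scheme.Modules.pullbackId Z).inv.app (Omega.conormal (i ≫ j)) ≫ b with hbbdef
  have hloc : ∀ (z : Z) (O : Z.Opens), z ∈ O → ∃ W : Z.Opens, z ∈ W ∧ W ≤ O ∧ Function.Injective (a.app W) ∧
      Function.Surjective (bb.app W) ∧ (∀ m, bb.app W m = 0 → ∃ l, a.app W l = m) ∧ ∀ l, bb.app W (a.app W l) = 0 :=
    fun z O hzO => exists_small_exact i j a ha b hb ⊤ (fun z' _ => hi.2 z') z O hzO le_top
  have w₀ : a ≫ bb = 0 := Scheme.Modules.hom_ext _ _ fun O => ConcreteCategory.hom_ext _ _ fun l => by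
    choose W hzW hWO _ _ _ hzero using fun x : O => hloc x.1 O x.2
    refine Ample.meq_of_cover (Omega.conormal i) W hWO (fun y hy => Opens.mem_iSup.2 ⟨⟨y, hy⟩, hzW _⟩) fun x => ?_
    rw [← Ample.app_mres, ← Ample.app_mres]
    exact hzero x (mres _ (hWO x) l)
  refine ⟨w₀, fun w => shortExact_of_small _ fun x O hx => ?_⟩
  obtain ⟨W, h1, h2, h3, h4, h5, -⟩ := hloc x O hx
  exact ⟨W, h1, h2, h3, h4, h5⟩

end GrothLib.RegImm12
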