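import Groth.Agent.Lib.RegImm12.DescendAlg
import Groth.Agent.Lib.LCI6.UpDown
import Groth.Agent.Lib.SeqKinds.Basic
import Groth.Agent.Lib.QReg26.Basic

/-!
# Permanence of the kinds of regular sequences along a split quotient
-/

set_option autoImplicit false
set_option linter.all false
set_option maxHeartbeats 1000000
universe u

open Matrix MvPolynomial

noncomputable section

namespace GrothLib.RegImm12

variable {R D : Type u} [CommRing R] [CommRing D]

theorem isH1Regular_quotient (ψ : R →+* D) (hψ : Function.Surjective ψ) {k m : ℕ} (a : Fin k → R) (f : Fin m → R)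
    (hker : RingHom.ker ψ = Ideal.span (Set.range f)) (h : CAlgX.IsH1Regular (Fin.append a f)) :
    CAlgX.IsH1Regular (ψ ∘ a) := by
  classical
  intro b hb
  choose b' hb' using fun i => hψ (b i)
  have hmem : ∑ i, b' i * a i ∈ Ideal.span (Set.range f) := by
    rw [← hker, RingHom.mem_ker, map_sum]
    simpa [hb', Function.comp] using hb
  obtain ⟨q, hq⟩ := Ideal.mem_span_range_iff_exists_fun.1 hmem
  let v : Fin (k + m) → R := Fin.append b' (fun j => -q j)
  have hv : ∑ s, v s * Fin.append a f s = 0 := by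
    rw [Fin.sum_univ_add]
    simp [v, hq]
  have hf0 : ∀ j, ψ (f j) = 0 := fun j => by
    rw [← RingHom.mem_ker, hker]; exact Ideal.subset_span ⟨j, rfl⟩
  let S := Submodule.span D {w : Fin k → D | ∃ i j : Fin k, w = Pi.single i ((ψ ∘ a) j) - Pi.single j ((ψ ∘ a) i)}
  have hall : ∀ w ∈ Submodule.span R
      {w : Fin (k + m) → R | ∃ i j, w = Pi.single i (Fin.append a f j) - Pi.single j (Fin.append a f i)},
      (fun l => ψ (w (Fin.castAdd m l))) ∈ S := by
    intro w hw
    induction hw using Submodule.span_induction with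
    | mem w hw =>
      obtain ⟨i, j, rfl⟩ := hw
      have h1 : ∀ (s t : Fin (k + m)) (l : Fin k), ψ ((Pi.single s (Fin.append a f t) : Fin (k + m) → R)
          (Fin.castAdd m l)) = if Fin.castAdd m l = s then ψ (Fin.append a f t) else 0 := fun s t l => by
        rw [Pi.single_apply]; split_ifs <;> simp
      induction i using Fin.addCases with
      | left i =>
        induction j using Fin.addCases with
        | left j =>
          refine Submodule.subset_span ⟨i, j, ?_⟩
          funext l
          simp only [Pi.sub_apply, map_sub, h1, (Fin.castAdd_injective k m).eq_iff, Fin.append_left,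
            Pi.single_apply, Function.comp]
          split_ifs <;> simp
        | right j =>
          convert S.zero_mem using 1
          funext l
          have hne : Fin.castAdd m l ≠ Fin.natAdd k j := fun h' => by
            have := congrArg Fin.val h'; simp at this; omega
          rw [Pi.sub_apply, map_sub, h1, h1]; simp [hne, hf0]
      | right i =>
        induction j using Fin.addCases with
        | left j =>
          convert S.zero_mem using 1
          funext l
          have hne : Fin.castAdd m l ≠ Fin.natAdd k i := fun h' => by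
            have := congrArg Fin.val h'; simp at this; omega
          rw [Pi.sub_apply, map_sub, h1, h1]; simp [hne, hf0]
        | right j =>
          convert S.zero_mem using 1
          funext l
          have hne : ∀ i : Fin m, Fin.castAdd m l ≠ Fin.natAdd k i := fun i h' => by
            have := congrArg Fin.val h'; simp at this; omega
          simp [h1, hne]
    | zero => convert S.zero_mem using 1; funext l; simp
    | add w w' _ _ hw hw' => convert S.add_mem hw hw' using 1; funext l; simp
    | smul t w _ hw => convert S.smul_mem (ψ t) hw using 1; funext l; simp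
  have := hall v (h v hv)
  convert this using 1
  funext l
  simp [v, hb']

/-- The intersection of a subsequence ideal with a power. -/
theorem span_inf_pow_le {n : ℕ} (y : Fin n → R) (hy : CAlgX.IsQuasiRegular y) {m : ℕ} (σ : Fin m → Fin n) :
    ∀ l : ℕ, Ideal.span (Set.range (y ∘ σ)) ⊓ Ideal.span (Set.range y) ^ (l + 1) ≤
      Ideal.span (Set.range (y ∘ σ)) * Ideal.span (Set.range y) ^ l
  | 0 => by rw [pow_zero, mul_one]; exact inf_le_left
  | l + 1 => fun x hx => by
    classical
    set J := Ideal.span (Set.range y) with hJ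
    set F := Ideal.span (Set.range (y ∘ σ)) with hF
    have h0 : x ∈ F * J ^ l := span_inf_pow_le y hy σ l ⟨hx.1, Ideal.pow_le_pow_right (by omega) hx.2⟩
    obtain ⟨b, hb, hbx⟩ : ∃ b : Fin m → R, (∀ j, b j ∈ J ^ l) ∧ ∑ j, b j * y (σ j) = x := by
      refine Submodule.mul_induction_on h0 (fun u hu v hv => ?_) ?_
      · obtain ⟨c, rfl⟩ := Ideal.mem_span_range_iff_exists_fun.1 hu
        refine ⟨fun j => c j * v, fun j => Ideal.mul_mem_left _ _ hv, ?_⟩
        rw [Finset.sum_mul]
        exact Finset.sum_congr rfl fun j _ => by simp [Function.comp]; ring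
      · rintro u v ⟨b, hb, rfl⟩ ⟨c, hc, rfl⟩
        exact ⟨b + c, fun j => add_mem (hb j) (hc j), by simp [add_mul, Finset.sum_add_distrib]⟩
    choose Q hQ hQK hQe using fun j => SeqKinds.exists_homogeneous_eval y ⊤ l (x := b j)
      (by rw [← Ideal.one_eq_top, one_mul]; exact hb j)
    let P : MvPolynomial (Fin n) R := ∑ j, Q j * X (σ j)
    have hP : P.IsHomogeneous (l + 1) := IsHomogeneous.sum _ _ _ fun j _ => (hQ j).mul (isHomogeneous_X R (σ j))
    have hPe : eval y P = x := by simp [P, hQe, hbx]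
    have hcoef : ∀ d, P.coeff d ∈ J := hy (l + 1) P hP (by rw [hPe]; exact hx.2)
    rw [← hPe, MvPolynomial.eval_eq]
    refine Ideal.sum_mem _ fun d hd => ?_
    obtain ⟨j, -, hjd⟩ : ∃ j ∈ (Finset.univ : Finset (Fin m)), (Q j * X (σ j)).coeff d ≠ 0 :=
      Finset.exists_ne_zero_of_sum_ne_zero (f := fun j => (Q j * X (σ j)).coeff d) (by rw [← coeff_sum]; exact mem_support_iff.1 hd)
    have hσd : σ j ∈ d.support := by
      by_contra h'
      exact hjd (by rw [coeff_mul_X', if_neg h'])
    have hdeg : d.degree = l + 1 := by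
      have := hP (mem_support_iff.1 hd)
      rw [Finsupp.degree_eq_weight_one]; exact this
    have hpos : 1 ≤ d (σ j) := Nat.one_le_iff_ne_zero.2 (Finsupp.mem_support_iff.1 hσd)
    have hprod : ∏ i ∈ d.support, y i ^ d i ∈ F * J ^ l := by
      rw [← Finset.mul_prod_erase _ _ hσd, ← Nat.add_sub_cancel' hpos, pow_add, pow_one, mul_assoc]
      refine Ideal.mul_mem_mul (Ideal.subset_span ⟨j, rfl⟩) ?_
      have hsum : (d (σ j) - 1) + ∑ i ∈ d.support.erase (σ j), d i = l := by
        have : d.degree = d (σ j) + ∑ i ∈ d.support.erase (σ j), d i :=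
          (Finset.add_sum_erase _ _ hσd).symm
        omega
      rw [← hsum, pow_add, ← Finset.prod_pow_eq_pow_sum]
      exact Ideal.mul_mem_mul (Ideal.pow_mem_pow (Ideal.subset_span (Set.mem_range_self (σ j))) _)
        (Ideal.prod_mem_prod fun i _ => Ideal.pow_mem_pow (Ideal.subset_span (Set.mem_range_self i)) _)
    have := Ideal.mul_mem_mul (hcoef d) hprod
    rwa [mul_left_comm J F, ← pow_succ'] at this

theorem isQuasiRegular_quotient (ψ : R →+* D) (hψ : Function.Surjective ψ) {k m : ℕ} (a : Fin k → R) (f : Fin m → R)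
    (hker : RingHom.ker ψ = Ideal.span (Set.range f)) (h : CAlgX.IsQuasiRegular (Fin.append a f)) :
    CAlgX.IsQuasiRegular (ψ ∘ a) := by
  classical
  refine SeqKinds.isQuasiRegular_of_eval_eq_zero _ fun n P hP hPe d => ?_
  set y := Fin.append a f with hy
  set J := Ideal.span (Set.range y) with hJ
  choose lift hlift using hψ
  let c : (Fin k →₀ ℕ) → R := fun d => lift (P.coeff d)
  let P' : MvPolynomial (Fin k) R := ∑ d ∈ P.support, monomial d (c d)
  have hP' : P'.IsHomogeneous n := IsHomogeneous.sum _ _ _ fun d hd =>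
    isHomogeneous_monomial _ (by
      have := hP (mem_support_iff.1 hd)
      rw [Finsupp.degree_eq_weight_one]; exact this)
  have hmap : map ψ P' = P := by
    conv_rhs => rw [P.as_sum]
    simp [P', map_sum, map_monomial, c, hlift]
  have hy' : y ∘ Fin.natAdd k = f := funext fun j => Fin.append_right a f j
  have hya : y ∘ Fin.castAdd m = a := funext fun j => Fin.append_left a f j
  have hev : eval a P' ∈ Ideal.span (Set.range f) := by
    rw [← hker, RingHom.mem_ker, ← hPe, ← hmap, MvPolynomial.eval_map, MvPolynomial.eval₂_comp]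
  have hP'' : (rename (Fin.castAdd m) P').IsHomogeneous n := hP'.rename_isHomogeneous
  have hev'' : eval y (rename (Fin.castAdd m) P') = eval a P' := by rw [eval_rename, hya]
  have hgoal : ∀ (d : Fin k →₀ ℕ) (Q : MvPolynomial (Fin (k + m)) R),
      Q.IsHomogeneous n → eval y Q = eval a P' → Q.coeff (d.mapDomain (Fin.castAdd m)) = 0 →
      P.coeff d ∈ Ideal.span (Set.range (ψ ∘ a)) := by
    intro d Q hQ hQe hQ0
    have := h n (rename (Fin.castAdd m) P' - Q) (hP''.sub hQ)
      (by rw [map_sub, hev'', hQe, sub_self]; exact zero_mem _) (d.mapDomain (Fin.castAdd m))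
    rw [coeff_sub, hQ0, sub_zero, coeff_rename_mapDomain _ (Fin.castAdd_injective k m)] at this
    rw [← hmap, coeff_map]
    refine (Ideal.map_le_iff_le_comap (f := ψ) (K := Ideal.span (Set.range (ψ ∘ a)))).1 ?_ this
    rw [Ideal.map_span, Ideal.span_le]
    rintro _ ⟨_, ⟨s, rfl⟩, rfl⟩
    induction s using Fin.addCases with
    | left i => rw [hy, Fin.append_left]; exact Ideal.subset_span ⟨i, rfl⟩
    | right i =>
      rw [hy, Fin.append_right]
      have : ψ (f i) = 0 := by rw [← RingHom.mem_ker, hker]; exact Ideal.subset_span ⟨i, rfl⟩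
      rw [this]; exact zero_mem _
  rcases n with _ | l
  · obtain rfl | hd := eq_or_ne d 0
    · have hc := MvPolynomial.totalDegree_eq_zero_iff_eq_C.1
        (Nat.le_zero.1 hP.totalDegree_le)
      rw [hc, eval_C] at hPe
      rw [hPe]; exact zero_mem _
    · have h0 : P.coeff d = 0 := hP.coeff_eq_zero (by
        simpa [Finsupp.degree_eq_zero_iff] using hd)
      rw [h0]; exact zero_mem _
  have hmem : eval a P' ∈ J ^ (l + 1) := by
    rw [← hev'', MvPolynomial.eval_eq]
    refine Ideal.sum_mem _ fun e he => Ideal.mul_mem_left _ _ ?_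
    have hdeg : e.degree = l + 1 := by
      have := hP'' (mem_support_iff.1 he)
      rw [Finsupp.degree_eq_weight_one]; exact this
    rw [← hdeg, show e.degree = ∑ i ∈ e.support, e i from rfl, ← Finset.prod_pow_eq_pow_sum]
    exact Ideal.prod_mem_prod fun i _ => Ideal.pow_mem_pow (Ideal.subset_span (Set.mem_range_self i)) _
  have hsub := span_inf_pow_le y h (Fin.natAdd k : Fin m → Fin (k + m)) l ⟨by rwa [hy'], hmem⟩
  rw [hy'] at hsub
  obtain ⟨Q, hQ, hQe, hQ0⟩ : ∃ Q : MvPolynomial (Fin (k + m)) R, Q.IsHomogeneous (l + 1) ∧ eval y Q = eval a P' ∧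
      Q.coeff (d.mapDomain (Fin.castAdd m)) = 0 := by
    refine Submodule.mul_induction_on hsub (fun u hu v hv => ?_) ?_
    · obtain ⟨q, rfl⟩ := Ideal.mem_span_range_iff_exists_fun.1 hu
      obtain ⟨V, hV, -, hVe⟩ := SeqKinds.exists_homogeneous_eval y ⊤ l (x := v)
        (by rw [← Ideal.one_eq_top, one_mul]; exact hv)
      refine ⟨∑ j, C (q j) * V * X (Fin.natAdd k j), IsHomogeneous.sum _ _ _ fun j _ =>
        (hV.C_mul (q j)).mul (isHomogeneous_X R _), ?_, ?_⟩
      · rw [map_sum, Finset.sum_mul]
        refine Finset.sum_congr rfl fun j _ => ?_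
        simp [y, hVe]; ring
      · rw [coeff_sum]
        refine Finset.sum_eq_zero fun j _ => ?_
        rw [coeff_mul_X', if_neg]
        intro h'
        obtain ⟨i, -, hi⟩ := Finset.mem_image.1 (Finsupp.mapDomain_support h')
        have := congrArg Fin.val hi
        simp at this; omega
    · rintro u v ⟨Q, h1, h2, h3⟩ ⟨Q', h1', h2', h3'⟩
      exact ⟨Q + Q', h1.add h1', by rw [map_add, h2, h2'], by rw [coeff_add, h3, h3', add_zero]⟩
  exact hgoal d Q hQ hQe hQ0

/-- Minimal generators near a prime of a finitely generated ideal. -/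
theorem exists_minimal_generators {A : Type u} [CommRing A] {I p : Ideal A} [p.IsPrime] (hI : I.FG) :
    ∃ (m : ℕ) (f : Fin m → A), (∀ i, f i ∈ I) ∧ (∃ s, s ∉ p ∧ ∀ x ∈ I, s * x ∈ Ideal.span (Set.range f)) ∧
      ∀ a : Fin m → A, ∑ i, a i * f i ∈ p * I → ∀ i, a i ∈ p := by
  classical
  let P : ℕ → Prop := fun m => ∃ f : Fin m → A, (∀ i, f i ∈ I) ∧ ∃ s, s ∉ p ∧ ∀ x ∈ I, s * x ∈ Ideal.span (Set.range f)
  have hP : ∃ m, P m := by
    obtain ⟨n, g, hg⟩ := Submodule.fg_iff_exists_fin_generating_family.1 hI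
    exact ⟨n, g, fun i => hg ▸ Submodule.subset_span ⟨i, rfl⟩, 1, fun h => ‹p.IsPrime›.ne_top ((Ideal.eq_top_iff_one p).2 h),
      fun x hx => by rw [one_mul]; exact hg.ge hx⟩
  obtain ⟨f, hf, s, hs, hgen⟩ := Nat.find_spec hP
  refine ⟨Nat.find hP, f, hf, ⟨s, hs, hgen⟩, fun a ha i₀ => ?_⟩
  by_contra hi₀
  obtain ⟨q, hq, hqsum⟩ : ∃ q : Fin (Nat.find hP) → A, (∀ j, q j ∈ p) ∧ ∑ j, q j * f j = s * ∑ j, a j * f j := by
    refine Submodule.mul_induction_on ha (fun u hu v hv => ?_) ?_
    · obtain ⟨c, hc⟩ := Ideal.mem_span_range_iff_exists_fun.1 (hgen v hv)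
      refine ⟨fun j => u * c j, fun j => Ideal.mul_mem_right _ _ hu, ?_⟩
      rw [mul_left_comm, ← hc, Finset.mul_sum]
      exact Finset.sum_congr rfl fun j _ => mul_assoc _ _ _
    · rintro u v ⟨b, hb, e⟩ ⟨c, hc, e'⟩
      exact ⟨b + c, fun j => add_mem (hb j) (hc j), by simp [add_mul, Finset.sum_add_distrib, mul_add, e, e']⟩
  set w := s * a i₀ - q i₀ with hw
  have hwp : w ∉ p := fun h => (Ideal.IsPrime.mem_or_mem inferInstance
    (show s * a i₀ ∈ p by simpa [hw] using add_mem h (hq i₀))).elim hs hi₀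
  obtain ⟨n, hn⟩ : ∃ n, Nat.find hP = n + 1 := ⟨Nat.find hP - 1, by have := i₀.2; omega⟩
  refine Nat.find_min hP (show n < Nat.find hP by omega) ⟨fun t => f (Fin.cast hn.symm ((Fin.cast hn i₀).succAbove t)),
    fun t => hf _, s * w, fun h => (Ideal.IsPrime.mem_or_mem inferInstance h).elim hs hwp, fun x hx => ?_⟩
  set F := Ideal.span (Set.range fun t => f (Fin.cast hn.symm ((Fin.cast hn i₀).succAbove t))) with hF
  have hmem : ∀ j, j ≠ i₀ → f j ∈ F := fun j hj => by
    obtain ⟨t, ht⟩ := Fin.exists_succAbove_eq (show Fin.cast hn j ≠ Fin.cast hn i₀ from fun h => hj (Fin.cast_injective hn h))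
    exact Ideal.subset_span ⟨t, by simp [ht]⟩
  have hwf : ∀ j, w * f j ∈ F := fun j => by
    rcases eq_or_ne j i₀ with rfl | hj
    · have h0 : ∑ l, (s * a l - q l) * f l = 0 := by
        simp [sub_mul, Finset.sum_sub_distrib, hqsum, Finset.mul_sum, mul_assoc]
      rw [← Finset.add_sum_erase _ _ (Finset.mem_univ j), add_eq_zero_iff_eq_neg] at h0
      rw [hw, h0]
      exact F.neg_mem (sum_mem fun l hl => Ideal.mul_mem_left _ _ (hmem l (Finset.ne_of_mem_erase hl)))
    · exact Ideal.mul_mem_left _ _ (hmem j hj)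
  obtain ⟨c, hc⟩ := Ideal.mem_span_range_iff_exists_fun.1 (hgen x hx)
  rw [mul_comm s, mul_assoc, ← hc, Finset.mul_sum]
  exact sum_mem fun j _ => by rw [mul_left_comm]; exact Ideal.mul_mem_left _ _ (hwf j)

/-- Adapted generators near a prime. -/
theorem exists_adapted_split {A : Type u} [CommRing A] {c : ℕ} (h : Fin c → A) (p : Ideal A) [p.IsPrime]
    {I : Ideal A} {m : ℕ} (f : Fin m → A) (hf : ∀ i, f i ∈ I) (hIJ : I ≤ Ideal.span (Set.range h))
    (hgen : ∃ s, s ∉ p ∧ ∀ x ∈ I, s * x ∈ Ideal.span (Set.range f))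
    (hind : ∀ a : Fin m → A, ∑ i, a i * f i ∈ p * Ideal.span (Set.range h) → ∀ i, a i ∈ p) :
    ∃ g, g ∉ p ∧ ∃ (k : ℕ) (hk : k + m = c) (a : Fin k → Localization.Away g)
      (T : Matrix (Fin (k + m)) (Fin (k + m)) (Localization.Away g)), IsUnit T.det ∧
      I.map (algebraMap A (Localization.Away g)) = Ideal.span (Set.range fun i => algebraMap A _ (f i)) ∧
      T *ᵥ (fun t => algebraMap A (Localization.Away g) (h (Fin.cast hk t))) =
        Fin.append a (fun i => algebraMap A _ (f i)) := by
  classical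
  obtain ⟨s, hs, hgen⟩ := hgen
  choose cf hcf using fun i => Ideal.mem_span_range_iff_exists_fun.1 (hIJ (hf i))
  have hli : LinearIndependent (FractionRing (A ⧸ p))
      fun i j => algebraMap (A ⧸ p) (FractionRing (A ⧸ p)) (Ideal.Quotient.mk p (cf i j)) := by
    refine Fintype.linearIndependent_iff.mpr fun a ha i₀ => ?_
    obtain ⟨d, hd⟩ := IsLocalization.exist_integer_multiples_of_finite (nonZeroDivisors (A ⧸ p)) a
    choose b' hb' using hd
    choose b hb using fun i => Ideal.Quotient.mk_surjective (b' i)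
    have hbK : ∀ i, algebraMap (A ⧸ p) (FractionRing (A ⧸ p)) (Ideal.Quotient.mk p (b i)) =
        algebraMap (A ⧸ p) (FractionRing (A ⧸ p)) d * a i := fun i => by
      rw [hb, hb', Algebra.smul_def]
    have hmem : ∀ l, ∑ i, b i * cf i l ∈ p := fun l => by
      refine Ideal.Quotient.eq_zero_iff_mem.mp (IsFractionRing.injective (A ⧸ p) (FractionRing (A ⧸ p)) ?_)
      rw [map_zero, map_sum, map_sum]
      have hl := congrFun ha l
      simp only [Finset.sum_apply, Pi.smul_apply, smul_eq_mul, Pi.zero_apply] at hl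
      simp only [map_mul, hbK, mul_assoc, ← Finset.mul_sum, hl, mul_zero]
    have hsum : ∑ i, b i * f i ∈ p * Ideal.span (Set.range h) := by
      have : ∑ i, b i * f i = ∑ l, (∑ i, b i * cf i l) * h l := by
        simp only [← hcf, Finset.mul_sum, Finset.sum_mul, mul_assoc]
        exact Finset.sum_comm
      rw [this]
      exact sum_mem fun l _ => Ideal.mul_mem_mul (hmem l) (Ideal.subset_span ⟨l, rfl⟩)
    have := hbK i₀
    rw [Ideal.Quotient.eq_zero_iff_mem.mpr (hind b hsum i₀), map_zero, zero_eq_mul] at this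
    exact this.resolve_left (IsLocalization.map_units (FractionRing (A ⧸ p)) d).ne_zero
  obtain ⟨k, hk, e, hdet⟩ := LCI6.exists_complete p cf hli
  subst hk
  let T₀ : Matrix (Fin (k + m)) (Fin (k + m)) A := Matrix.of fun a b => Fin.append e cf a b
  have hdet' : T₀.det ∉ p := by simpa using hdet
  refine ⟨s * T₀.det, fun h' => (Ideal.IsPrime.mem_or_mem inferInstance h').elim hs hdet', ?_⟩
  let B := Localization.Away (s * T₀.det)
  let α := algebraMap A B
  have hu : IsUnit (α (s * T₀.det)) := IsLocalization.Away.algebraMap_isUnit _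
  refine ⟨k, rfl, fun t => α (∑ j, e t j * h j), T₀.map α, ?_, ?_, ?_⟩
  · rw [show (T₀.map α).det = α T₀.det from (RingHom.map_det α T₀).symm]
    exact isUnit_of_dvd_unit (map_dvd α (dvd_mul_left _ _)) hu
  · refine le_antisymm (Ideal.map_le_iff_le_comap.2 fun x hx => ?_) (Ideal.span_le.2 ?_)
    · have hsu : IsUnit (α s) := isUnit_of_dvd_unit (map_dvd α (dvd_mul_right _ _)) hu
      rw [Ideal.mem_comap, ← (Ideal.unit_mul_mem_iff_mem _ hsu), ← map_mul]
      have := Ideal.mem_map_of_mem α (hgen x hx)
      rwa [Ideal.map_span, ← Set.range_comp] at this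
    · rintro _ ⟨i, rfl⟩
      exact Ideal.mem_map_of_mem _ (hf i)
  · funext t
    induction t using Fin.addCases with
    | left t => simp [T₀, Matrix.mulVec, dotProduct, α, B]
    | right i => simp [T₀, Matrix.mulVec, dotProduct, α, B, ← hcf]

end GrothLib.RegImm12
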