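import Groth.Agent.Lib.RegImm12.DescendAlg
import Groth.Agent.Lib.RegSeqLoc.Immersion
import Groth.Agent.Lib.RegSeqLoc.AnyBaseChange
import Groth.Agent.Lib.LCI6.InLocus
import Groth.Prelude.Def_RegImm
import Mathlib.AlgebraicGeometry.Morphisms.Smooth

/-!
# Quasi and H1 regular immersions descend along smooth morphisms
-/

set_option autoImplicit false
set_option linter.all false
set_option maxHeartbeats 1000000
set_option backward.isDefEq.respectTransparency false
set_option backward.isDefEq.respectTransparency.types false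
universe u

open CategoryTheory AlgebraicGeometry Opposite TopologicalSpace

namespace GrothLib.RegImm12

/-- Restricting a closed immersion chart to a basic open. -/
theorem chart_basicOpen {Z X : Scheme.{u}} (i : Z ⟶ X) {U : X.Opens} (hU : IsAffineOpen U)
    (hci : IsClosedImmersion (i ∣_ U)) (g : Γ(X, U)) :
    IsClosedImmersion (i ∣_ X.basicOpen g) ∧
      RingHom.ker (i.app (X.basicOpen g)).hom =
        (RingHom.ker (i.app U).hom).map (X.presheaf.map (homOfLE (X.basicOpen_le g)).op).hom := by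
  constructor
  · have h2 : IsClosedImmersion ((i ∣_ U) ∣_ (U.ι ⁻¹ᵁ X.basicOpen g)) :=
      IsZariskiLocalAtTarget.restrict hci _
    rw [MorphismProperty.arrow_mk_iso_iff @IsClosedImmersion (morphismRestrictRestrict i U _)] at h2
    have e2 : U.ι ''ᵁ (U.ι ⁻¹ᵁ X.basicOpen g) = X.basicOpen g := by
      rw [Scheme.Hom.image_preimage_eq_opensRange_inf, Scheme.Opens.opensRange_ι]
      exact inf_eq_right.2 (X.basicOpen_le g)
    rwa [MorphismProperty.arrow_mk_iso_iff @IsClosedImmersion (morphismRestrictEq i e2)] at h2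
  · have hU' : IsAffineOpen (i ⁻¹ᵁ U) := (GrothLib.RegSeqLoc.app_surjective_of_restrict i hU hci).2
    haveI := hU.isLocalization_basicOpen g
    letI : Algebra Γ(Z, i ⁻¹ᵁ U) Γ(Z, i ⁻¹ᵁ X.basicOpen g) :=
      (Z.presheaf.map (homOfLE (i.preimage_mono (X.basicOpen_le g))).op).hom.toAlgebra
    haveI : IsLocalization.Away ((i.app U).hom g) Γ(Z, i ⁻¹ᵁ X.basicOpen g) :=
      hU'.isLocalization_of_eq_basicOpen (V := i ⁻¹ᵁ X.basicOpen g) (i.app U g)
        (homOfLE (i.preimage_mono (X.basicOpen_le g))) (Scheme.preimage_basicOpen i g)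
    have key : (i.app (X.basicOpen g)).hom = IsLocalization.map (M := Submonoid.powers g)
        (T := Submonoid.powers ((i.app U).hom g)) Γ(Z, i ⁻¹ᵁ X.basicOpen g) (i.app U).hom
        (Submonoid.powers_le.mpr (Submonoid.mem_powers _)) := by
      refine IsLocalization.ringHom_ext (Submonoid.powers g) ?_
      rw [IsLocalization.map_comp]
      show (X.presheaf.map (homOfLE (X.basicOpen_le g)).op ≫ i.app (X.basicOpen g)).hom = _
      rw [i.naturality]
      rfl
    rw [key]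
    exact IsLocalization.ker_map _ _ (Submonoid.map_powers _ g)

theorem flat_res_basicOpen {X : Scheme.{u}} {U : X.Opens} (hU : IsAffineOpen U) (g : Γ(X, U)) :
    (X.presheaf.map (homOfLE (X.basicOpen_le g)).op).hom.Flat := by
  haveI := hU.isLocalization_basicOpen g
  exact IsLocalization.flat Γ(X, X.basicOpen g) (Submonoid.powers g)

/-- Sequences as lists. -/
theorem seq_get_ofFn {R : Type u} [CommRing R] {m : ℕ} (f : Fin m → R) :
    (CAlgX.IsQuasiRegular f → CAlgX.IsQuasiRegular (List.ofFn f).get) ∧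
      (CAlgX.IsH1Regular f → CAlgX.IsH1Regular (List.ofFn f).get) := by
  have key : ∀ (k : ℕ) (hk : k = m) (f' : Fin k → R), f' = f ∘ Fin.cast hk →
      (CAlgX.IsQuasiRegular f → CAlgX.IsQuasiRegular f') ∧ (CAlgX.IsH1Regular f → CAlgX.IsH1Regular f') := by
    rintro k rfl f' rfl; exact ⟨id, id⟩
  exact key _ List.length_ofFn (List.ofFn f).get (funext fun i => List.get_ofFn f i)

theorem regularAt_descend {Y X S : Scheme.{u}} (p : X ⟶ S) [Smooth p] (i : Y ⟶ X) (j : Y ⟶ S)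
    [IsImmersion i] [IsImmersion j] (h : i ≫ p = j) (k : RegImm.Kind)
    (hk : k = RegImm.Kind.h1 ∨ k = RegImm.Kind.quasi) (z : Y)
    (hi : RegImm.IsRegularImmersionAt k i z) : RegImm.IsRegularImmersionAt k j z := by
  subst h
  obtain ⟨U0, hzU0, hci0, rs, hrs, hker0⟩ := hi
  obtain ⟨V, hzV, hciV⟩ := GrothLib.RegSeqLoc.exists_affine_isClosedImmersion (i ≫ p) z
  obtain ⟨g1, hg1, hzg1⟩ := U0.2.exists_basicOpen_le (V := p ⁻¹ᵁ V.1) ⟨i z, hzV⟩ hzU0
  set U1 := X.basicOpen g1 with hU1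
  have hU1a : IsAffineOpen U1 := U0.2.basicOpen g1
  obtain ⟨hci1, hker1⟩ := chart_basicOpen i U0.2 hci0 g1
  obtain ⟨O, hO, hOeq⟩ := (i ≫ p).isEmbedding.isInducing.isOpen_iff.1 (i ⁻¹ᵁ U1).2
  have hzO : (i ≫ p) z ∈ O := by
    show z ∈ (i ≫ p) ⁻¹' O
    rw [hOeq]; exact hzg1
  obtain ⟨a, haO, hza⟩ := V.2.exists_basicOpen_le (V := ⟨O, hO⟩) ⟨(i ≫ p) z, hzO⟩ hzV
  set Va := S.basicOpen a with hVa
  have hVaa : IsAffineOpen Va := V.2.basicOpen a
  obtain ⟨hciVa, -⟩ := chart_basicOpen (i ≫ p) V.2 hciV a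
  let g2 : Γ(X, U1) := p.appLE V.1 U1 hg1 a
  set U' := X.basicOpen g2 with hU'
  have hU'eq : U' = U1 ⊓ p ⁻¹ᵁ Va := Scheme.basicOpen_appLE p _ _ _ _
  have hU'a : IsAffineOpen U' := hU1a.basicOpen g2
  obtain ⟨hci', hker'⟩ := chart_basicOpen i hU1a hci1 g2
  have e : U' ≤ p ⁻¹ᵁ Va := hU'eq.le.trans inf_le_right
  have hpre : (i ≫ p) ⁻¹ᵁ Va = i ⁻¹ᵁ U' := by
    rw [hU'eq]
    refine le_antisymm (fun y hy => ⟨?_, hy⟩) fun y hy => hy.2
    exact hOeq.le (show y ∈ (i ≫ p) ⁻¹' O from haO hy)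
  letI : Algebra Γ(S, Va) Γ(X, U') := (p.appLE Va U' e).hom.toAlgebra
  haveI : Algebra.Smooth Γ(S, Va) Γ(X, U') := p.smooth_appLE hVaa hU'a e
  let ρ : Γ(X, U0.1) →+* Γ(X, U') :=
    (X.presheaf.map (homOfLE (X.basicOpen_le g2)).op).hom.comp (X.presheaf.map (homOfLE (X.basicOpen_le g1)).op).hom
  have hρ : ρ.Flat := RingHom.Flat.comp (flat_res_basicOpen U0.2 g1) (flat_res_basicOpen hU1a g2)
  let h' : Fin rs.length → Γ(X, U') := ρ ∘ rs.get
  have hI : Ideal.span (Set.range h') = RingHom.ker (i.app U').hom := by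
    rw [hker', hker1, hker0, Ideal.map_map, show Ideal.ofList rs = Ideal.span (Set.range rs.get) by
      rw [Set.range_list_get], Ideal.map_span, ← Set.range_comp]
  have hq : CAlgX.IsQuasiRegular h' := by
    rcases hk with rfl | rfl
    · exact GrothLib.SeqKinds.isQuasiRegular_map ρ hρ _ (GrothLib.SeqKinds.isQuasiRegular_of_isH1Regular _ hrs)
    · exact GrothLib.SeqKinds.isQuasiRegular_map ρ hρ _ hrs
  obtain ⟨hsj, hjaff⟩ := GrothLib.RegSeqLoc.app_surjective_of_restrict (i ≫ p) hVaa hciVa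
  have hcomp : (p.appLE Va U' e) ≫ i.app U' = (i ≫ p).app Va ≫ Y.presheaf.map (eqToHom hpre.symm).op := by
    rw [Scheme.Hom.app_eq_appLE, Scheme.Hom.app_eq_appLE, Scheme.Hom.appLE_comp_appLE, Scheme.Hom.appLE_map]
  have hinj : Function.Bijective (Y.presheaf.map (eqToHom hpre.symm).op) :=
    (ConcreteCategory.isIso_iff_bijective _).1 inferInstance
  have hJ : RingHom.ker ((i ≫ p).app Va).hom = (Ideal.span (Set.range h')).comap (algebraMap Γ(S, Va) Γ(X, U')) := by
    rw [hI]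
    ext x
    rw [RingHom.mem_ker, Ideal.mem_comap, RingHom.mem_ker]
    show _ ↔ (p.appLE Va U' e ≫ i.app U') x = 0
    rw [hcomp]
    exact ⟨fun h0 => by show Y.presheaf.map _ ((i ≫ p).app Va x) = 0; rw [h0, map_zero],
      fun h0 => hinj.1 (h0.trans (map_zero _).symm)⟩
  have hsurj : ∀ y : Γ(X, U'), ∃ x : Γ(S, Va), y - algebraMap Γ(S, Va) Γ(X, U') x ∈ Ideal.span (Set.range h') := fun y => by
    obtain ⟨w, hw⟩ := hinj.2 (i.app U' y)
    obtain ⟨x, hx⟩ := hsj w
    refine ⟨x, ?_⟩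
    rw [hI, RingHom.mem_ker, map_sub, sub_eq_zero]
    show i.app U' y = (p.appLE Va U' e ≫ i.app U') x
    rw [hcomp, ← hw, ← hx]
    rfl
  have hzU' : i z ∈ U' := hU'eq.ge ⟨hzg1, hza⟩
  let q : Ideal Γ(X, U') := (IsLocalRing.maximalIdeal (X.presheaf.stalk (i z))).comap (X.presheaf.germ U' (i z) hzU').hom
  have hle : Ideal.span (Set.range h') ≤ q := by
    rw [hI]
    intro x hx
    show X.presheaf.germ U' (i z) hzU' x ∈ IsLocalRing.maximalIdeal _
    rw [IsLocalRing.mem_maximalIdeal, mem_nonunits_iff]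
    intro hu
    have := hu.map (i.stalkMap z).hom
    rw [Scheme.Hom.germ_stalkMap_apply, show i.app U' x = 0 from hx, map_zero] at this
    exact not_isUnit_zero this
  haveI : q.IsPrime := Ideal.comap_isPrime _ _
  obtain ⟨a', ha', m, f, hf, hfq, hfh⟩ := exists_descend h' hq hsurj q hle
  set V'' := S.basicOpen a' with hV''
  haveI := hVaa.isLocalization_basicOpen a'
  let θ : Localization.Away a' ≃ₐ[Γ(S, Va)] Γ(S, V'') := IsLocalization.algEquiv (Submonoid.powers a') _ _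
  have hθ : θ.toRingEquiv.toRingHom.Flat := RingHom.Flat.of_bijective θ.bijective
  obtain ⟨hci'', hker''⟩ := chart_basicOpen (i ≫ p) hVaa hciVa a'
  refine ⟨⟨V'', hVaa.basicOpen a'⟩, ?_, hci'', List.ofFn (θ.toRingEquiv.toRingHom ∘ f), ?_, ?_⟩
  · have h1 : i z ∈ X.basicOpen (p.appLE Va U' e a') := by
      rw [Scheme.mem_basicOpen _ _ _ hzU']
      by_contra hu
      exact ha' hu
    rw [Scheme.basicOpen_appLE] at h1
    exact h1.2
  · rcases hk with rfl | rfl
    · refine (seq_get_ofFn _).2 (GrothLib.SeqKinds.isH1Regular_map _ hθ f (hfh ?_))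
      exact GrothLib.SeqKinds.isH1Regular_map ρ hρ _ hrs
    · exact (seq_get_ofFn _).1 (GrothLib.SeqKinds.isQuasiRegular_map _ hθ f hfq)
  · rw [hker'', hJ]
    have : Ideal.ofList (List.ofFn (θ.toRingEquiv.toRingHom ∘ f)) =
        (Ideal.span (Set.range f)).map θ.toRingEquiv.toRingHom := by
      rw [Ideal.map_span, ← Set.range_comp]
      exact congrArg Ideal.span (Set.ext fun x => List.mem_ofFn)
    rw [this, hf, Ideal.map_map]
    congr 1
    exact RingHom.ext fun x => (θ.commutes x).symm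

end GrothLib.RegImm12
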