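import Groth.Agent.Lib.SeqKinds.Basic
import Groth.Agent.Lib.QReg26.Basic
import Mathlib.RingTheory.Smooth.Basic
import Mathlib.RingTheory.Smooth.Flat
import Mathlib.RingTheory.Smooth.Kaehler
import Mathlib.RingTheory.Etale.Kaehler
import Mathlib.RingTheory.Flat.FaithfullyFlat.Algebra
import Mathlib.RingTheory.Flat.Localization
import Mathlib.RingTheory.Spectrum.Prime.Chevalley
import Mathlib.RingTheory.Ideal.GoingDown
import Mathlib.LinearAlgebra.Matrix.NonsingularInverse
import Mathlib.LinearAlgebra.Matrix.ToLin
import Mathlib.LinearAlgebra.TensorProduct.Quotient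
import Mathlib.LinearAlgebra.Basis.VectorSpace

/-!
# Descending quasi and H1 regular sequences along smooth algebras with a section
-/

set_option autoImplicit false
set_option linter.all false
set_option maxHeartbeats 1000000
set_option backward.isDefEq.respectTransparency false
set_option backward.isDefEq.respectTransparency.types false
universe u

open TensorProduct Matrix

namespace GrothLib.RegImm12

section H1

variable {R : Type u} [CommRing R]

/-- `H_1`-regularity is invariant under an invertible change of the sequence. -/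
theorem isH1Regular_mulVec {c : ℕ} (M : Matrix (Fin c) (Fin c) R) (hM : IsUnit M.det) {h : Fin c → R}
    (hh : CAlgX.IsH1Regular h) : CAlgX.IsH1Regular (M *ᵥ h) := by
  classical
  intro b hb
  let S : Set (Fin c → R) := {v | ∃ i j : Fin c, v = Pi.single i ((M *ᵥ h) j) - Pi.single j ((M *ᵥ h) i)}
  have h1 : b ᵥ* M ∈ Submodule.span R {v : Fin c → R | ∃ i j : Fin c, v = Pi.single i (h j) - Pi.single j (h i)} := by
    refine hh _ ?_
    show (b ᵥ* M) ⬝ᵥ h = 0
    rw [← dotProduct_mulVec]
    exact hb
  have hN : M⁻¹ * M = 1 := Matrix.nonsing_inv_mul M hM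
  have key : ∀ v ∈ Submodule.span R {v : Fin c → R | ∃ i j : Fin c, v = Pi.single i (h j) - Pi.single j (h i)},
      v ᵥ* M⁻¹ ∈ Submodule.span R S := by
    intro v hv
    induction hv using Submodule.span_induction with
    | mem v hv =>
      obtain ⟨i, j, rfl⟩ := hv
      have hexp : ∀ j, h j = ∑ t, M⁻¹ j t * (M *ᵥ h) t := fun j => by
        show h j = (M⁻¹ *ᵥ (M *ᵥ h)) j
        rw [mulVec_mulVec, hN, one_mulVec]
      have heq : (Pi.single i (h j) - Pi.single j (h i)) ᵥ* M⁻¹ =
          ∑ s, ∑ t, (M⁻¹ i s * M⁻¹ j t) • (Pi.single s ((M *ᵥ h) t) - Pi.single t ((M *ᵥ h) s)) := by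
        funext l
        have e1 : ∀ i j, (∑ s, ∑ t, (M⁻¹ i s * M⁻¹ j t) * (Pi.single s ((M *ᵥ h) t) : Fin c → R) l) =
            h j * M⁻¹ i l := fun i j => by
          rw [Finset.sum_eq_single l (fun s _ hs => by simp [Pi.single_eq_of_ne hs.symm]) (by simp), hexp j,
            Finset.sum_mul]
          exact Finset.sum_congr rfl fun t _ => by rw [Pi.single_eq_same]; ring
        have e2 : (∑ s, ∑ t, (M⁻¹ i s * M⁻¹ j t) * (Pi.single t ((M *ᵥ h) s) : Fin c → R) l) = h i * M⁻¹ j l := by
          rw [Finset.sum_comm]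
          rw [← e1 j i]
          exact Finset.sum_congr rfl fun t _ => Finset.sum_congr rfl fun s _ => by ring
        simp only [sub_vecMul, Pi.sub_apply, Finset.sum_apply, Pi.smul_apply, smul_eq_mul, mul_sub,
          Finset.sum_sub_distrib, e1, e2]
        simp [single_vecMul]
      rw [heq]
      exact Submodule.sum_mem _ fun s _ => Submodule.sum_mem _ fun t _ =>
        Submodule.smul_mem _ _ (Submodule.subset_span ⟨s, t, rfl⟩)
    | zero => rw [zero_vecMul]; exact zero_mem _
    | add v w _ _ hv hw => rw [add_vecMul]; exact add_mem hv hw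
    | smul a v _ hv => rw [smul_vecMul]; exact Submodule.smul_mem _ _ hv
  have := key _ h1
  rwa [vecMul_vecMul, Matrix.mul_nonsing_inv M hM, vecMul_one] at this

theorem span_mulVec {c : ℕ} (M : Matrix (Fin c) (Fin c) R) (hM : IsUnit M.det) (h : Fin c → R) :
    Ideal.span (Set.range (M *ᵥ h)) = Ideal.span (Set.range h) := by
  have key : ∀ (N : Matrix (Fin c) (Fin c) R) (g : Fin c → R),
      Ideal.span (Set.range (N *ᵥ g)) ≤ Ideal.span (Set.range g) := fun N g => by
    refine Ideal.span_le.2 ?_
    rintro _ ⟨i, rfl⟩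
    show ∑ j, N i j * g j ∈ Ideal.span (Set.range g)
    exact Ideal.sum_mem _ fun j _ => Ideal.mul_mem_left _ _ (Ideal.subset_span (Set.mem_range_self j))
  refine le_antisymm (key M h) ?_
  have := key M⁻¹ (M *ᵥ h)
  rwa [mulVec_mulVec, Matrix.nonsing_inv_mul M hM, one_mulVec] at this

theorem mem_of_faithfullyFlat {Q : Type u} [CommRing Q] [Algebra R Q] [Module.FaithfullyFlat R Q] {m : ℕ}
    (S : Set (Fin m → R)) (b : Fin m → R)
    (hb : (fun j => algebraMap R Q (b j)) ∈ Submodule.span Q ((fun v j => algebraMap R Q (v j)) '' S)) :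
    b ∈ Submodule.span R S := by
  classical
  let N := (Fin m → R) ⧸ Submodule.span R S
  let cl : (Fin m → R) →ₗ[R] N := Submodule.mkQ _
  let Ψ : (Fin m → Q) →ₗ[Q] Q ⊗[R] N := Fintype.linearCombination Q (fun j => (1 : Q) ⊗ₜ cl (Pi.single j 1))
  have hΨ : ∀ v : Fin m → R, Ψ (fun j => algebraMap R Q (v j)) = (1 : Q) ⊗ₜ cl v := fun v => by
    rw [Fintype.linearCombination_apply]
    conv_rhs => rw [show v = ∑ j, v j • Pi.single j (1 : R) by
      funext l; simp [Finset.sum_apply, Pi.single_apply], map_sum, TensorProduct.tmul_sum]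
    exact Finset.sum_congr rfl fun j _ => by rw [algebraMap_smul, map_smul, TensorProduct.tmul_smul]
  have hle : Submodule.span Q ((fun v j => algebraMap R Q (v j)) '' S) ≤ LinearMap.ker Ψ := by
    rw [Submodule.span_le]
    rintro _ ⟨v, hv, rfl⟩
    show Ψ _ = 0
    rw [hΨ, show cl v = 0 from (Submodule.Quotient.mk_eq_zero _).2 (Submodule.subset_span hv), TensorProduct.tmul_zero]
  have h0 := hle hb
  rw [LinearMap.mem_ker, hΨ] at h0
  have : cl b = 0 := Module.FaithfullyFlat.tensorProduct_mk_injective (A := R) (B := Q) N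
    (h0.trans (map_zero (TensorProduct.mk R Q N 1)).symm)
  exact (Submodule.Quotient.mk_eq_zero _).1 this

end H1

/-- A quotient by elements with an invertible Jacobian matrix is formally smooth. -/
theorem formallySmooth_quotient {A T : Type u} [CommRing A] [CommRing T] [Algebra A T] [Algebra.FormallySmooth A T]
    {n : ℕ} (e : Fin n → T) (L : Fin n → (Ω[T⁄A] →ₗ[T] T))
    (hJ : IsUnit (Matrix.of fun j i => L j (KaehlerDifferential.D A T (e i))).det) :
    Algebra.FormallySmooth A (T ⧸ Ideal.span (Set.range e)) := by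
  classical
  set E := Ideal.span (Set.range e) with hE
  set Jm : Matrix (Fin n) (Fin n) T := Matrix.of fun j i => L j (KaehlerDifferential.D A T (e i)) with hJm
  rw [Algebra.FormallySmooth.iff_split_injection (P := T) Ideal.Quotient.mk_surjective]
  set K := RingHom.ker (algebraMap T (T ⧸ E)) with hK
  have hKE : K = E := Ideal.mk_ker
  have heK : ∀ i, e i ∈ K := fun i => hKE.ge (Ideal.subset_span ⟨i, rfl⟩)
  let g : Ω[T⁄A] →ₗ[T] K.Cotangent :=
    ∑ i, (∑ j, Jm⁻¹ i j • L j).smulRight (K.toCotangent ⟨e i, heK i⟩)
  have hg : ∀ i, g (KaehlerDifferential.D A T (e i)) = K.toCotangent ⟨e i, heK i⟩ := fun i => by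
    simp only [g, LinearMap.sum_apply, LinearMap.smulRight_apply, LinearMap.smul_apply, smul_eq_mul]
    have hsum : ∀ i', ∑ j, Jm⁻¹ i' j * L j (KaehlerDifferential.D A T (e i)) = (1 : Matrix (Fin n) (Fin n) T) i' i :=
      fun i' => by
        show (Jm⁻¹ * Jm) i' i = _
        rw [Matrix.nonsing_inv_mul Jm hJ]
    simp only [hsum]
    rw [Finset.sum_eq_single i (fun i' _ hi' => by rw [Matrix.one_apply_ne hi', zero_smul]) (by simp),
      Matrix.one_apply_eq, one_smul]
  have hkill : E • (⊤ : Submodule T Ω[T⁄A]) ≤ LinearMap.ker g := by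
    refine Submodule.smul_le.2 fun r hr z _ => ?_
    rw [LinearMap.mem_ker, map_smul]
    obtain ⟨w, hw⟩ := K.toCotangent_surjective (g z)
    rw [← hw, ← map_smul, Ideal.toCotangent_eq_zero, pow_two]
    exact Ideal.mul_mem_mul (hKE.ge hr) w.2
  let l : (T ⧸ E) ⊗[T] Ω[T⁄A] →ₗ[T] K.Cotangent :=
    ((E • (⊤ : Submodule T Ω[T⁄A])).liftQ g hkill).comp
      (TensorProduct.quotTensorEquivQuotSMul (Ω[T⁄A]) E).toLinearMap
  refine ⟨l, LinearMap.ext fun z => ?_⟩
  obtain ⟨⟨x, hx⟩, rfl⟩ := K.toCotangent_surjective z
  have hl : ∀ (x : T) (hx : x ∈ K),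
      l (KaehlerDifferential.kerCotangentToTensor A T (T ⧸ E) (K.toCotangent ⟨x, hx⟩)) =
        g (KaehlerDifferential.D A T x) := fun x hx => by
    rw [KaehlerDifferential.kerCotangentToTensor_toCotangent]
    simp [l]
  show l (KaehlerDifferential.kerCotangentToTensor A T (T ⧸ E) (K.toCotangent ⟨x, hx⟩)) = _
  obtain ⟨t, ht⟩ := Ideal.mem_span_range_iff_exists_fun.1 (show x ∈ E from hKE.le hx)
  have hxs : (⟨x, hx⟩ : K) = ∑ i, t i • (⟨e i, heK i⟩ : K) := Subtype.ext (by simp [← ht])
  rw [hxs, map_sum, map_sum, map_sum, map_sum]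
  refine Finset.sum_congr rfl fun i _ => ?_
  rw [map_smul, map_smul, map_smul, hl, hg]
  rfl

/-- A basis adapted to a subset. -/
theorem exists_split {κ : Type u} [Field κ] {c : ℕ} (T0 T1 : Set (Fin c → κ)) (h01 : T0 ⊆ T1)
    (hT1 : Submodule.span κ T1 = ⊤) :
    ∃ (n m : ℕ) (hc : n + m = c) (be : Fin n → (Fin c → κ)) (bf : Fin m → (Fin c → κ)),
      (∀ j, bf j ∈ T0) ∧ (∀ j, be j ∈ T1) ∧ T0 ⊆ Submodule.span κ (Set.range bf) ∧
      LinearIndependent κ (Fin.append be bf) := by
  classical
  obtain ⟨b0, hb0, hspan0, hli0⟩ := exists_linearIndependent κ T0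
  have hli0' : LinearIndepOn κ id b0 := hli0
  set B := hli0'.extend (hb0.trans h01 : b0 ⊆ T1) with hB
  have hBsub : B ⊆ T1 := hli0'.extend_subset _
  have hb0B : b0 ⊆ B := hli0'.subset_extend _
  have hBli : LinearIndepOn κ id B := hli0'.linearIndepOn_extend _
  have hBspan : Submodule.span κ B = ⊤ := by
    rw [eq_top_iff, ← hT1, Submodule.span_le]
    exact hli0'.subset_span_extend _
  have hBfin : B.Finite := hBli.setFinite
  haveI : Fintype ↥b0 := (hBfin.subset hb0B).fintype
  haveI : Fintype ↥(B \ b0) := (hBfin.subset Set.diff_subset).fintype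
  let m := Fintype.card ↥b0
  let n := Fintype.card ↥(B \ b0)
  let bf : Fin m → (Fin c → κ) := fun j => ((Fintype.equivFin ↥b0).symm j).1
  let be : Fin n → (Fin c → κ) := fun j => ((Fintype.equivFin ↥(B \ b0)).symm j).1
  have hbinj : Function.Injective (Fin.append be bf) := by
    have h1 : Function.Injective be := Subtype.val_injective.comp (Equiv.injective _)
    have h2 : Function.Injective bf := Subtype.val_injective.comp (Equiv.injective _)
    refine fun s t hst => ?_
    induction s using Fin.addCases with
    | left i =>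
      induction t using Fin.addCases with
      | left j => simp only [Fin.append_left] at hst; rw [h1 hst]
      | right j =>
        simp only [Fin.append_left, Fin.append_right] at hst
        exact (((Fintype.equivFin ↥(B \ b0)).symm i).2.2 (show be i ∈ b0 from hst ▸ ((Fintype.equivFin ↥b0).symm j).2)).elim
    | right i =>
      induction t using Fin.addCases with
      | left j =>
        simp only [Fin.append_left, Fin.append_right] at hst
        exact (((Fintype.equivFin ↥(B \ b0)).symm j).2.2 (show be j ∈ b0 from hst ▸ ((Fintype.equivFin ↥b0).symm i).2)).elim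
      | right j => simp only [Fin.append_right] at hst; rw [h2 hst]
  have hbrange : Set.range (Fin.append be bf) = B := by
    refine le_antisymm ?_ fun v hv => ?_
    · rintro _ ⟨s, rfl⟩
      induction s using Fin.addCases with
      | left i => simpa [be] using ((Fintype.equivFin ↥(B \ b0)).symm i).2.1
      | right i => simpa [bf] using hb0B ((Fintype.equivFin ↥b0).symm i).2
    · by_cases h0 : v ∈ b0
      · exact ⟨Fin.natAdd n (Fintype.equivFin ↥b0 ⟨v, h0⟩), by simp [bf]⟩
      · exact ⟨Fin.castAdd m (Fintype.equivFin ↥(B \ b0) ⟨v, hv, h0⟩), by simp [be]⟩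
  have hbli : LinearIndependent κ (Fin.append be bf) := (linearIndepOn_id_range_iff hbinj).1 (hbrange.symm ▸ hBli)
  have hbsp : ⊤ ≤ Submodule.span κ (Set.range (Fin.append be bf)) := by rw [hbrange, hBspan]
  have hc : n + m = c := by
    have := Module.finrank_eq_card_basis (Module.Basis.mk hbli hbsp)
    rw [Module.finrank_pi, Fintype.card_fin, Fintype.card_fin] at this
    exact this.symm
  refine ⟨n, m, hc, be, bf, fun j => hb0 ((Fintype.equivFin ↥b0).symm j).2,
    fun j => hBsub ((Fintype.equivFin ↥(B \ b0)).symm j).2.1, fun v hv => ?_, hbli⟩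
  have : v ∈ Submodule.span κ b0 := hspan0.ge (Submodule.subset_span hv)
  refine Submodule.span_mono (fun w hw => ?_) this
  exact ⟨Fintype.equivFin ↥b0 ⟨w, hw⟩, by simp [bf]⟩

section Main

variable {A P : Type u} [CommRing A] [CommRing P] [Algebra A P]

/-- Choosing generators adapted to the base, together with a Jacobian. -/
theorem exists_adapted [Module.Projective P Ω[P⁄A]] {c : ℕ} (h : Fin c → P) (hq : CAlgX.IsQuasiRegular h)
    (hsurj : ∀ y : P, ∃ a : A, y - algebraMap A P a ∈ Ideal.span (Set.range h))
    (q : Ideal P) [q.IsPrime] (hle : Ideal.span (Set.range h) ≤ q) :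
    ∃ (n m : ℕ) (hc : n + m = c) (e : Fin n → P) (f : Fin m → A) (M : Matrix (Fin c) (Fin c) P)
      (L : Fin n → (Ω[P⁄A] →ₗ[P] P)),
      (∀ j, algebraMap A P (f j) ∈ Ideal.span (Set.range h)) ∧
      (∀ s, Fin.append e (algebraMap A P ∘ f) s = (M *ᵥ h) (Fin.cast hc s)) ∧ M.det ∉ q ∧
      (Matrix.of fun j i => L j (KaehlerDifferential.D A P (e i))).det ∉ q := by
  classical
  set I := Ideal.span (Set.range h) with hI
  let κ := q.ResidueField
  let ρ : P →+* κ := algebraMap P κ
  have hρ : ∀ y ∈ q, ρ y = 0 := fun y hy => Ideal.algebraMap_residueField_eq_zero.2 hy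
  choose u hu using fun i : I => Ideal.mem_span_range_iff_exists_fun.1 i.2
  have hwd : ∀ (v : Fin c → P) (i : I), ∑ j, v j * h j = i → (fun j => ρ (v j)) = fun j => ρ (u i j) := fun v i hv => by
    funext j
    have := GrothLib.QReg26.mem_of_sum_mul_mem_sq hq (fun j => v j - u i j)
      (by simp [sub_mul, Finset.sum_sub_distrib, hv, hu i]) j
    exact sub_eq_zero.1 (by rw [← map_sub]; exact hρ _ (hle this))
  let φ : I → (Fin c → κ) := fun i j => ρ (u i j)
  have hadd : ∀ i i' : I, φ (i + i') = φ i + φ i' := fun i i' => by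
    refine ((hwd (fun j => u i j + u i' j) (i + i') ?_).symm.trans ?_)
    · simp [add_mul, Finset.sum_add_distrib, hu]
    · funext j; exact map_add ρ _ _
  have hsmul : ∀ (y : P) (i : I), φ (y • i) = ρ y • φ i := fun y i => by
    refine ((hwd (fun j => y * u i j) (y • i) ?_).symm.trans ?_)
    · simp [mul_assoc, ← Finset.mul_sum, hu]
    · funext j; exact map_mul ρ _ _
  let T0 : Set (Fin c → κ) := {v | ∃ (x : A) (hx : algebraMap A P x ∈ I), v = φ ⟨_, hx⟩}
  obtain ⟨n, m, hc, be, bf, hbf, hbeT, hT0, hbli⟩ := exists_split T0 (T0 ∪ Set.range φ) Set.subset_union_left (by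
    rw [eq_top_iff, ← (Pi.basisFun κ (Fin c)).span_eq, Submodule.span_le]
    rintro _ ⟨j, rfl⟩
    refine Submodule.subset_span (Or.inr ⟨⟨h j, Ideal.subset_span ⟨j, rfl⟩⟩, ?_⟩)
    refine (hwd (Pi.single j 1) _ (by simp [Pi.single_apply])).symm.trans ?_
    funext l
    simp [Pi.single_apply, apply_ite ρ])
  subst hc
  choose f hf hfe using hbf
  have hbe : ∀ j : Fin n, ∃ i : I, be j = φ i := fun j => by
    rcases hbeT j with ⟨x, hx, h'⟩ | ⟨i, h'⟩
    · exact ⟨_, h'⟩
    · exact ⟨i, h'.symm⟩
  choose e he using hbe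
  let b : Fin (n + m) → (Fin (n + m) → κ) := Fin.append be bf
  let k : Fin (n + m) → I := Fin.append e (fun j => ⟨algebraMap A P (f j), hf j⟩)
  let M : Matrix (Fin (n + m)) (Fin (n + m)) P := Matrix.of fun s i => u (k s) i
  have hkb : ∀ s, φ (k s) = b s := fun s => by
    induction s using Fin.addCases with
    | left i => simp only [k, b, Fin.append_left]; exact (he i).symm
    | right i => simp only [k, b, Fin.append_right]; exact (hfe i).symm
  have hkval : ∀ s, (k s : P) = Fin.append (fun i => (e i : P)) (algebraMap A P ∘ f) s := fun s => by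
    induction s using Fin.addCases with
    | left i => simp [k]
    | right i => simp [k]
  have hMρ : M.map ρ = Matrix.of b := by
    ext s i; exact congrFun (hkb s) i
  have hMu : IsUnit (M.map ρ).det := by
    rw [← Matrix.isUnit_iff_isUnit_det, hMρ]
    exact Matrix.linearIndependent_rows_iff_isUnit.1 hbli
  have hMdet : ρ M.det ≠ 0 := by rw [RingHom.map_det]; exact hMu.ne_zero
  have hMq : M.det ∉ q := fun hm => hMdet (hρ _ hm)
  -- coordinates
  let co : I → Fin n → P := fun i j => ((fun l => u i l) ᵥ* M.adjugate) (Fin.castAdd m j)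
  have hco : ∀ i j, ρ (co i j) = ((φ i) ᵥ* (M.map ρ).adjugate) (Fin.castAdd m j) := fun i j => by
    show ρ (((fun l => u i l) ᵥ* M.adjugate) (Fin.castAdd m j)) = _
    rw [RingHom.map_vecMul, ← RingHom.mapMatrix_apply, RingHom.map_adjugate]
    rfl
  have hcob : ∀ s (j : Fin n), ρ (co (k s) j) = if s = Fin.castAdd m j then ρ M.det else 0 := fun s j => by
    rw [hco, hkb]
    have hb' : b s = Pi.single s (1 : κ) ᵥ* M.map ρ := by rw [hMρ, single_one_vecMul]; rfl
    rw [hb', vecMul_vecMul, Matrix.mul_adjugate, vecMul_smul, vecMul_one, RingHom.map_det]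
    simp [Pi.single_apply, eq_comm]
  have hco0 : ∀ (x : A) (hx : algebraMap A P x ∈ I) j, ρ (co ⟨_, hx⟩ j) = 0 := by
    intro x hx j
    rw [hco]
    have hmem : φ ⟨_, hx⟩ ∈ Submodule.span κ (Set.range bf) := by
      exact hT0 ⟨x, hx, rfl⟩
    generalize φ ⟨_, hx⟩ = v at hmem
    induction hmem using Submodule.span_induction with
    | mem v hv =>
      obtain ⟨i, rfl⟩ := hv
      have := hcob (Fin.natAdd n i) j
      rw [hco, hkb, if_neg (fun h => absurd (congrArg Fin.val h) (by simp only [Fin.val_natAdd, Fin.val_castAdd]; omega))] at this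
      simpa [b] using this
    | zero => simp
    | add v w _ _ hv hw => simp [add_vecMul, hv, hw]
    | smul a v _ hv => simp [smul_vecMul, hv]
  choose sec hsec using hsurj
  let r : P → I := fun y => ⟨y - algebraMap A P (sec y), hsec y⟩
  have hwd2 : ∀ (y : P) (a : A) (hya : y - algebraMap A P a ∈ I) j, ρ (co ⟨_, hya⟩ j) = ρ (co (r y) j) := by
    intro y a hya j
    have hx : algebraMap A P (sec y - a) ∈ I := by
      have := sub_mem hya (hsec y)
      rwa [sub_sub_sub_cancel_left, ← map_sub] at this
    have : (⟨_, hya⟩ : I) = r y + ⟨_, hx⟩ := Subtype.ext (by simp [r])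
    rw [this, hco, hco, hadd, add_vecMul, Pi.add_apply]
    have := hco0 _ hx j
    rw [hco] at this
    rw [this, add_zero]
  let π : P → P ⧸ q := Ideal.Quotient.mk q
  have hρπ : ∀ y y', ρ y = ρ y' → π y = π y' := fun y y' hyy =>
    Ideal.Quotient.eq.2 (Ideal.algebraMap_residueField_eq_zero.1 (by rw [map_sub]; exact sub_eq_zero.2 hyy))
  have hder : ∀ j : Fin n, ∃ L : Ω[P⁄A] →ₗ[P] P, ∀ i : Fin n,
      π (L (KaehlerDifferential.D A P (e i : P))) = if i = j then π M.det else 0 := fun j => by
    let D₀ : Derivation A P (P ⧸ q) := Derivation.mk'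
      { toFun := fun y => π (co (r y) j)
        map_add' := fun y z => by
          have hyz : y + z - algebraMap A P (sec y + sec z) ∈ I := by
            rw [map_add, add_sub_add_comm]; exact add_mem (hsec y) (hsec z)
          have e1 : (⟨_, hyz⟩ : I) = r y + r z := Subtype.ext (by simp [r, add_sub_add_comm])
          show π _ = π _ + π _
          rw [← map_add]
          refine hρπ _ _ ?_
          rw [← hwd2 (y + z) _ hyz j, e1, map_add, hco, hco, hco, hadd, add_vecMul, Pi.add_apply]
        map_smul' := fun a y => by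
          have hay : a • y - algebraMap A P (a * sec y) ∈ I := by
            rw [Algebra.smul_def, map_mul, ← mul_sub]; exact Ideal.mul_mem_left _ _ (hsec y)
          have e1 : (⟨_, hay⟩ : I) = algebraMap A P a • r y := Subtype.ext (by simp [r, Algebra.smul_def, mul_sub])
          show π _ = a • π _
          rw [Algebra.smul_def a (π (co (r y) j)), show algebraMap A (P ⧸ q) a = π (algebraMap A P a) from rfl, ← map_mul]
          refine hρπ _ _ ?_
          rw [← hwd2 (a • y) _ hay j, e1, map_mul, hco, hco, hsmul, smul_vecMul, Pi.smul_apply, smul_eq_mul] }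
      fun y z => by
        have hyz : y * z - algebraMap A P (sec y * sec z) ∈ I := by
          rw [map_mul, show y * z - algebraMap A P (sec y) * algebraMap A P (sec z) =
            y * (z - algebraMap A P (sec z)) + algebraMap A P (sec z) * (y - algebraMap A P (sec y)) by
              rw [mul_sub, mul_sub, mul_comm (algebraMap A P (sec z)) y, sub_add_sub_cancel,
                mul_comm (algebraMap A P (sec z))]]
          exact add_mem (Ideal.mul_mem_left _ _ (hsec z)) (Ideal.mul_mem_left _ _ (hsec y))
        have e1 : (⟨_, hyz⟩ : I) = y • r z + algebraMap A P (sec z) • r y := Subtype.ext (by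
          show y * z - algebraMap A P (sec y * sec z) =
            y * (z - algebraMap A P (sec z)) + algebraMap A P (sec z) * (y - algebraMap A P (sec y))
          rw [map_mul, mul_sub, mul_sub, mul_comm (algebraMap A P (sec z)) y, sub_add_sub_cancel,
            mul_comm (algebraMap A P (sec z))])
        have e2 : ρ (algebraMap A P (sec z)) = ρ z :=
          (sub_eq_zero.1 (by rw [← map_sub]; exact hρ _ (hle (hsec z)))).symm
        show π _ = y • π _ + z • π _
        rw [Algebra.smul_def, Algebra.smul_def, Ideal.Quotient.algebraMap_eq, ← map_mul, ← map_mul, ← map_add]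
        refine hρπ _ _ ?_
        rw [← hwd2 (y * z) _ hyz j, e1, map_add, map_mul, map_mul, hco, hco, hco, hadd, hsmul, hsmul, add_vecMul,
          smul_vecMul, smul_vecMul, Pi.add_apply, Pi.smul_apply, Pi.smul_apply, smul_eq_mul, smul_eq_mul, e2]
    obtain ⟨L, hL⟩ := Module.projective_lifting_property (Submodule.mkQ q) D₀.liftKaehlerDifferential
      (Submodule.mkQ_surjective q)
    refine ⟨L, fun i => ?_⟩
    show Submodule.mkQ q (L _) = _
    rw [← LinearMap.comp_apply, hL, Derivation.liftKaehlerDifferential_comp_D]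
    have he0 : (e i : P) - algebraMap A P 0 ∈ I := by simp
    have e1 : (⟨_, he0⟩ : I) = k (Fin.castAdd m i) := Subtype.ext (by simp [k])
    show π (co (r (e i)) j) = _
    split_ifs with hij
    · refine hρπ _ _ ?_
      rw [← hwd2 _ _ he0 j, e1, hcob, if_pos (by rw [hij])]
    · rw [← map_zero (Ideal.Quotient.mk q)]
      refine hρπ _ _ ?_
      rw [← hwd2 _ _ he0 j, e1, hcob, if_neg (fun h => hij (Fin.castAdd_injective n m h)), map_zero]
  choose L hL using hder
  refine ⟨n, m, rfl, fun i => (e i : P), f, M, L, hf, fun s => ?_, hMq, fun hd => ?_⟩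
  · rw [← hkval]
    exact (hu (k s)).symm
  · have hdd : π (Matrix.of fun j i => L j (KaehlerDifferential.D A P (e i : P))).det = π (M.det ^ n) := by
      show (Ideal.Quotient.mk q) _ = _
      rw [RingHom.map_det]
      have : (Ideal.Quotient.mk q).mapMatrix (Matrix.of fun j i => L j (KaehlerDifferential.D A P (e i : P))) =
          π M.det • (1 : Matrix (Fin n) (Fin n) (P ⧸ q)) := by
        ext j i
        show π _ = _
        rw [Matrix.of_apply, hL j i, Matrix.smul_apply, Matrix.one_apply]
        by_cases hij : i = j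
        · simp [hij]
        · simp [hij, Ne.symm hij]
      rw [this, Matrix.det_smul, Matrix.det_one, mul_one, Fintype.card_fin]
      exact (map_pow (Ideal.Quotient.mk q) _ _).symm
    exact hMq ((inferInstance : q.IsPrime).mem_of_pow_mem n
      (Ideal.Quotient.eq_zero_iff_mem.1 (hdd.symm.trans (Ideal.Quotient.eq_zero_iff_mem.2 hd))))

/-- Descent of quasi and `H_1`-regular sequences. -/
theorem exists_descend [Algebra.Smooth A P] {c : ℕ} (h : Fin c → P) (hq : CAlgX.IsQuasiRegular h)
    (hsurj : ∀ y : P, ∃ a : A, y - algebraMap A P a ∈ Ideal.span (Set.range h))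
    (q : Ideal P) [q.IsPrime] (hle : Ideal.span (Set.range h) ≤ q) :
    ∃ a : A, algebraMap A P a ∉ q ∧ ∃ (m : ℕ) (f : Fin m → Localization.Away a),
      Ideal.span (Set.range f) =
        ((Ideal.span (Set.range h)).comap (algebraMap A P)).map (algebraMap A (Localization.Away a)) ∧
      CAlgX.IsQuasiRegular f ∧ (CAlgX.IsH1Regular h → CAlgX.IsH1Regular f) := by
  classical
  obtain ⟨n, m, rfl, e, f, M, L, hfJ, hk, hMq, hLq⟩ := exists_adapted h hq hsurj q hle
  have hkey : ∀ s, Fin.append e (algebraMap A P ∘ f) s = (M *ᵥ h) s := hk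
  set d := M.det * (Matrix.of fun j i => L j (KaehlerDifferential.D A P (e i))).det with hd
  have hdq : d ∉ q := fun h' => ((inferInstance : q.IsPrime).mem_or_mem h').elim hMq hLq
  -- smoothness
  have hsm : ∀ G : P, d ∣ G → Algebra.Smooth A
      (Localization.Away G ⧸ Ideal.span (Set.range fun i => algebraMap P (Localization.Away G) (e i))) := by
    intro G hG
    let T := Localization.Away G
    haveI : Algebra.FormallyEtale P T := Algebra.FormallyEtale.of_isLocalization (Submonoid.powers G)
    haveI : Algebra.FormallySmooth A T := Algebra.FormallySmooth.comp A P T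
    let L' : Fin n → (Ω[T⁄A] →ₗ[T] T) := fun j =>
      (KaehlerDifferential.isBaseChange_of_formallyEtale A P T).lift ((Algebra.linearMap P T).comp (L j))
    have hL' : ∀ j (x : P), L' j (KaehlerDifferential.D A T (algebraMap P T x)) =
        algebraMap P T (L j (KaehlerDifferential.D A P x)) := fun j x => by
      have := (KaehlerDifferential.isBaseChange_of_formallyEtale A P T).lift_eq
        ((Algebra.linearMap P T).comp (L j)) (KaehlerDifferential.D A P x)
      rwa [KaehlerDifferential.map_D] at this
    haveI := formallySmooth_quotient (A := A) (fun i => algebraMap P T (e i)) L' (by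
      simp only [hL']
      have : (Matrix.of fun j i => algebraMap P T (L j (KaehlerDifferential.D A P (e i)))) =
          (Matrix.of fun j i => L j (KaehlerDifferential.D A P (e i))).map (algebraMap P T) := rfl
      rw [this, ← RingHom.mapMatrix_apply, ← RingHom.map_det]
      exact isUnit_of_dvd_unit (map_dvd _ ((dvd_mul_left _ _).trans hG)) (IsLocalization.Away.algebraMap_isUnit G))
    haveI : Algebra.FinitePresentation P T := IsLocalization.Away.finitePresentation G
    haveI : Algebra.FinitePresentation A T := Algebra.FinitePresentation.trans A P T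
    haveI : Algebra.FinitePresentation A (T ⧸ Ideal.span (Set.range fun i => algebraMap P T (e i))) :=
      Algebra.FinitePresentation.quotient (Submodule.fg_span (Set.finite_range _))
    exact ⟨inferInstance, inferInstance⟩
  let p := q.comap (algebraMap A P)
  have heq : ∀ i, e i ∈ q := fun i => by
    have := hkey (Fin.castAdd m i)
    rw [Fin.append_left] at this
    rw [this]
    show ∑ j, M (Fin.castAdd m i) j * h j ∈ q
    exact Ideal.sum_mem _ fun j _ => Ideal.mul_mem_left _ _ (hle (Ideal.subset_span (Set.mem_range_self j)))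
  haveI := hsm d dvd_rfl
  have hopen := PrimeSpectrum.isOpenMap_comap_of_hasGoingDown_of_finitePresentation (R := A)
    (S := Localization.Away d ⧸ Ideal.span (Set.range fun i => algebraMap P (Localization.Away d) (e i)))
  obtain ⟨_, ⟨_, ⟨a, rfl⟩, rfl⟩, hpa, haU⟩ := PrimeSpectrum.isBasis_basic_opens.exists_subset_of_mem_open
    (a := (⟨p, inferInstance⟩ : PrimeSpectrum A)) (u := Set.range (PrimeSpectrum.comap (algebraMap A
      (Localization.Away d ⧸ Ideal.span (Set.range fun i => algebraMap P (Localization.Away d) (e i)))))) (by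
      obtain ⟨qd, hqd⟩ : (⟨q, inferInstance⟩ : PrimeSpectrum P) ∈
          Set.range (PrimeSpectrum.comap (algebraMap P (Localization.Away d))) := by
        rw [PrimeSpectrum.localization_away_comap_range _ d]; exact hdq
      obtain ⟨Q, hQ⟩ : qd ∈ Set.range (PrimeSpectrum.comap (Ideal.Quotient.mk
          (Ideal.span (Set.range fun i => algebraMap P (Localization.Away d) (e i))))) := by
        rw [range_comap_of_surjective _ _ Ideal.Quotient.mk_surjective, Ideal.mk_ker]
        refine Ideal.span_le.2 ?_
        rintro _ ⟨i, rfl⟩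
        show e i ∈ (PrimeSpectrum.comap (algebraMap P (Localization.Away d)) qd).asIdeal
        rw [hqd]; exact heq i
      refine ⟨Q, PrimeSpectrum.ext ?_⟩
      show _ = q.comap (algebraMap A P)
      rw [show q = ((PrimeSpectrum.comap (algebraMap P (Localization.Away d)) qd).asIdeal) by rw [hqd], ← hQ]
      rfl)
    hopen.isOpen_range
  refine ⟨a, hpa, m, fun j => algebraMap A _ (f j), ?_⟩
  set G := d * algebraMap A P a with hG
  let T := Localization.Away G
  let A' := Localization.Away a
  have hua : IsUnit (algebraMap A T a) := by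
    rw [IsScalarTower.algebraMap_apply A P T]
    exact isUnit_of_dvd_unit (map_dvd _ (dvd_mul_left _ _)) (IsLocalization.Away.algebraMap_isUnit G)
  letI : Algebra A' T := (IsLocalization.Away.lift a hua).toAlgebra
  haveI : IsScalarTower A A' T := IsScalarTower.of_algebraMap_eq fun x => (IsLocalization.Away.lift_eq a hua x).symm
  set E := Ideal.span (Set.range fun i => algebraMap P T (e i)) with hE
  let Q := T ⧸ E
  haveI := hsm G (dvd_mul_right _ _)
  haveI : Module.Flat A Q := inferInstance
  haveI : Module.Flat A' Q := (Module.flat_iff_of_isLocalization A' (Submonoid.powers a) _).mpr inferInstance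
  haveI : Module.FaithfullyFlat A' Q := Module.FaithfullyFlat.of_comap_surjective fun r => by
    have hr : algebraMap A A' a ∉ r.asIdeal := fun h' =>
      r.2.ne_top (Ideal.eq_top_of_isUnit_mem _ h' (IsLocalization.Away.algebraMap_isUnit a))
    obtain ⟨Q₀, hQ₀⟩ := haU (show PrimeSpectrum.comap (algebraMap A A') r ∈ _ from hr)
    let QP : PrimeSpectrum P := PrimeSpectrum.comap (algebraMap P (Localization.Away d))
      (PrimeSpectrum.comap (Ideal.Quotient.mk _) Q₀)
    have hA : PrimeSpectrum.comap (algebraMap A P) QP = PrimeSpectrum.comap (algebraMap A A') r := hQ₀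
    have hd0 : d ∉ QP.asIdeal := fun h' =>
      (PrimeSpectrum.comap (Ideal.Quotient.mk _) Q₀).2.ne_top
        (Ideal.eq_top_of_isUnit_mem _ h' (IsLocalization.Away.algebraMap_isUnit d))
    have ha0 : algebraMap A P a ∉ QP.asIdeal := fun h' => by
      have : a ∈ (PrimeSpectrum.comap (algebraMap A P) QP).asIdeal := h'
      rw [hA] at this
      exact hr this
    obtain ⟨qt, hqt⟩ : QP ∈ Set.range (PrimeSpectrum.comap (algebraMap P T)) := by
      rw [PrimeSpectrum.localization_away_comap_range _ G]
      exact fun h' => (QP.2.mem_or_mem h').elim hd0 ha0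
    obtain ⟨Qq, hQq⟩ : qt ∈ Set.range (PrimeSpectrum.comap (Ideal.Quotient.mk E)) := by
      rw [range_comap_of_surjective _ _ Ideal.Quotient.mk_surjective, Ideal.mk_ker]
      refine Ideal.span_le.2 ?_
      rintro _ ⟨i, rfl⟩
      show e i ∈ (PrimeSpectrum.comap (algebraMap P T) qt).asIdeal
      rw [hqt]
      show Ideal.Quotient.mk _ (algebraMap P (Localization.Away d) (e i)) ∈ Q₀.asIdeal
      rw [Ideal.Quotient.eq_zero_iff_mem.2 (Ideal.subset_span (Set.mem_range_self i))]
      exact zero_mem _
    refine ⟨Qq, PrimeSpectrum.localization_comap_injective A' (Submonoid.powers a) ?_⟩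
    rw [← hA, ← hqt, ← hQq]
    refine PrimeSpectrum.ext ?_
    ext x
    show algebraMap A' Q (algebraMap A A' x) ∈ Qq.asIdeal ↔
      Ideal.Quotient.mk E (algebraMap P T (algebraMap A P x)) ∈ Qq.asIdeal
    rw [← IsScalarTower.algebraMap_apply A A', IsScalarTower.algebraMap_apply A T Q,
      IsScalarTower.algebraMap_apply A P T]
    rfl
  let ψ := algebraMap P T
  let hT : Fin (n + m) → T := ψ ∘ h
  let MT := M.map ψ
  have hMT : IsUnit MT.det := by
    show IsUnit (ψ.mapMatrix M).det
    rw [← RingHom.map_det]
    exact isUnit_of_dvd_unit (map_dvd _ ((dvd_mul_right _ _).trans (dvd_mul_right _ _))) (IsLocalization.Away.algebraMap_isUnit G)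
  let f' : Fin m → A' := fun j => algebraMap A A' (f j)
  let k' : Fin (n + m) → T := Fin.append (fun i => ψ (e i)) (algebraMap A' T ∘ f')
  have hk' : k' = MT *ᵥ hT := by
    funext s
    have : (MT *ᵥ hT) s = ψ ((M *ᵥ h) s) := (RingHom.map_mulVec ψ M h s).symm
    rw [this, ← hkey]
    induction s using Fin.addCases with
    | left i => simp [k']
    | right i =>
      simp only [k', Fin.append_right, Function.comp_apply, f']
      rw [← IsScalarTower.algebraMap_apply A A' T, IsScalarTower.algebraMap_apply A P T]
  have hspan : Ideal.span (Set.range k') = Ideal.span (Set.range hT) := by rw [hk', span_mulVec MT hMT]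
  have hke : ∀ s, Ideal.Quotient.mk E (k' s) ∈ (Ideal.span (Set.range f')).map (algebraMap A' Q) := fun s => by
    induction s using Fin.addCases with
    | left i =>
      simp only [k', Fin.append_left]
      rw [Ideal.Quotient.eq_zero_iff_mem.2 (Ideal.subset_span (Set.mem_range_self i))]
      exact zero_mem _
    | right i =>
      simp only [k', Fin.append_right, Function.comp_apply]
      exact Ideal.mem_map_of_mem (algebraMap A' Q) (Ideal.subset_span ⟨i, rfl⟩)
  have hpre : ∀ x : A', algebraMap A' T x ∈ Ideal.span (Set.range hT) → x ∈ Ideal.span (Set.range f') := fun x hx => by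
    rw [← Ideal.comap_map_eq_self_of_faithfullyFlat (B := Q) (Ideal.span (Set.range f')), Ideal.mem_comap]
    rw [← hspan] at hx
    have h2 : Ideal.span (Set.range k') ≤ ((Ideal.span (Set.range f')).map (algebraMap A' Q)).comap (Ideal.Quotient.mk E) :=
      Ideal.span_le.2 (by rintro _ ⟨s, rfl⟩; exact hke s)
    exact h2 hx
  have hspanf : Ideal.span (Set.range f') = ((Ideal.span (Set.range h)).comap (algebraMap A P)).map (algebraMap A A') := by
    refine le_antisymm (Ideal.span_le.2 ?_) (Ideal.map_le_iff_le_comap.2 fun x hx => hpre _ ?_)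
    · rintro _ ⟨j, rfl⟩
      exact Ideal.mem_map_of_mem _ (hfJ j)
    · rw [← IsScalarTower.algebraMap_apply A A' T, IsScalarTower.algebraMap_apply A P T]
      have := Ideal.mem_map_of_mem ψ (Ideal.mem_comap.1 hx)
      rwa [Ideal.map_span, ← Set.range_comp] at this
  have hψflat : ψ.Flat := RingHom.flat_algebraMap_iff.2 (IsLocalization.flat T (Submonoid.powers G))
  refine ⟨hspanf, ?_, fun hh => ?_⟩
  · have hqk : CAlgX.IsQuasiRegular k' :=
      GrothLib.QReg26.isQuasiRegular_of_span_eq hT k' (GrothLib.SeqKinds.isQuasiRegular_map ψ hψflat h hq) hspan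
    intro dg F hF hev δ
    refine hpre _ ?_
    rw [← hspan]
    have hF' : (MvPolynomial.rename (Fin.natAdd n) (MvPolynomial.map (algebraMap A' T) F)).IsHomogeneous dg :=
      (hF.map _).rename_isHomogeneous
    have hev' : MvPolynomial.eval k' (MvPolynomial.rename (Fin.natAdd n) (MvPolynomial.map (algebraMap A' T) F)) =
        algebraMap A' T (MvPolynomial.eval f' F) := by
      rw [MvPolynomial.eval_rename, MvPolynomial.eval_map]
      have : k' ∘ Fin.natAdd n = algebraMap A' T ∘ f' := funext fun j => by simp [k']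
      rw [this, MvPolynomial.eval₂_comp]
    have h' := hqk dg _ hF' ?_ (δ.mapDomain (Fin.natAdd n))
    · rwa [MvPolynomial.coeff_rename_mapDomain _ (Fin.natAdd_injective m n), MvPolynomial.coeff_map] at h'
    · rw [hev']
      refine Ideal.pow_right_mono ?_ _ (Ideal.map_pow (algebraMap A' T) _ (dg + 1) ▸ Ideal.mem_map_of_mem _ hev)
      rw [Ideal.map_span]
      refine Ideal.span_mono ?_
      rintro _ ⟨_, ⟨j, rfl⟩, rfl⟩
      exact ⟨Fin.natAdd n j, by simp [k', f']; rfl⟩
  · have hhk : CAlgX.IsH1Regular k' :=
      hk' ▸ isH1Regular_mulVec MT hMT (GrothLib.SeqKinds.isH1Regular_map ψ hψflat h hh)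
    show CAlgX.IsH1Regular f'
    intro b hb
    refine mem_of_faithfullyFlat (Q := Q) _ b ?_
    let v : Fin (n + m) → T := Fin.append (fun _ => 0) (algebraMap A' T ∘ b)
    have hv : ∑ s, v s * k' s = 0 := by
      rw [Fin.sum_univ_add]
      simp [v, k', ← map_mul, ← map_sum, hb]
    let S := Submodule.span Q ((fun w j => algebraMap A' Q (w j)) ''
      {w : Fin m → A' | ∃ i j : Fin m, w = Pi.single i (f' j) - Pi.single j (f' i)})
    suffices hall : ∀ w ∈ Submodule.span T {w : Fin (n + m) → T | ∃ i j, w = Pi.single i (k' j) - Pi.single j (k' i)},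
        (fun j => Ideal.Quotient.mk E (w (Fin.natAdd n j))) ∈ S by
      have := hall v (hhk v hv)
      convert this using 1
      funext j
      simp [v]
      rfl
    intro w hw
    induction hw using Submodule.span_induction with
    | mem w hw =>
      obtain ⟨i, j, rfl⟩ := hw
      have hzero : ∀ (i : Fin n) (s : Fin (n + m)), (fun l : Fin m => Ideal.Quotient.mk E
          ((Pi.single (Fin.castAdd m i) (k' s) - Pi.single s (k' (Fin.castAdd m i)) : Fin (n + m) → T)
            (Fin.natAdd n l))) = 0 := fun i s => by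
        funext l
        have hne : (Fin.natAdd n l : Fin (n + m)) ≠ Fin.castAdd m i := fun h' => by
          have := congrArg Fin.val h'; simp at this; omega
        rw [Pi.sub_apply, Pi.single_eq_of_ne hne, zero_sub, map_neg, Pi.zero_apply, neg_eq_zero,
          Ideal.Quotient.eq_zero_iff_mem, Pi.single_apply]
        split_ifs
        · simp only [k', Fin.append_left]; exact Ideal.subset_span ⟨i, rfl⟩
        · exact zero_mem _
      induction i using Fin.addCases with
      | left i => rw [hzero]; exact zero_mem _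
      | right i =>
        induction j using Fin.addCases with
        | left j =>
          have := hzero j (Fin.natAdd n i)
          convert S.neg_mem (this ▸ S.zero_mem) using 1
          funext l
          simp
        | right j =>
          refine Submodule.subset_span ⟨_, ⟨i, j, rfl⟩, ?_⟩
          funext l
          simp only [k', Fin.append_right, Function.comp_apply, Pi.sub_apply, Pi.single_apply,
            (Fin.natAdd_injective m n).eq_iff, map_sub]
          congr 1 <;> split_ifs <;> simp <;> rfl
    | zero => convert S.zero_mem using 1; funext l; simp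
    | add w w' _ _ hw hw' => convert S.add_mem hw hw' using 1; funext l; simp
    | smul t w _ hw => convert S.smul_mem (Ideal.Quotient.mk E t) hw using 1; funext l; simp

end Main

end GrothLib.RegImm12
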