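import Groth.Agent.Lib.RegImm12.Permanence
import Groth.Agent.Lib.LCI6.Kinds
import Groth.Agent.Lib.FinCov.FrameFree

/-!
# Pairs of regular immersions over a locally Noetherian scheme
-/

set_option autoImplicit false
set_option linter.all false
set_option maxHeartbeats 1000000
set_option backward.isDefEq.respectTransparency false
set_option backward.isDefEq.respectTransparency.types false
universe u

open CategoryTheory CategoryTheory.Limits AlgebraicGeometry Opposite TopologicalSpace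

noncomputable section

namespace GrothLib.RegImm12

open GrothLib.InvExt (mres)

variable {Z Y X : Scheme.{u}} (i : Z ⟶ Y) (j : Y ⟶ X)

theorem isRegularImmersionAt_comp [IsImmersion i] [IsImmersion j] [IsLocallyNoetherian X] (z : Z)
    (hi : RegImm.IsRegularImmersionAt .regular i z) (hj : RegImm.IsRegularImmersionAt .regular j (i z)) :
    RegImm.IsRegularImmersionAt .regular (i ≫ j) z := by
  haveI : IsImmersion (i ≫ j) := MorphismProperty.comp_mem @IsImmersion _ _ ‹_› ‹_›
  haveI : IsLocallyNoetherian Y := LocallyOfFiniteType.isLocallyNoetherian j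
  rw [LCI6.isRegularImmersionAt_iff_inLocus_of_noetherian] at hi hj ⊢
  exact LCI6.inLocus_comp hi hj

/-- The first immersion is regular when the composition is and the conormal map splits. -/
theorem at_left_of_local [IsLocallyNoetherian X] {V : X.Opens} (hV : IsAffineOpen V) (z : Z) (hzV : (i ≫ j) z ∈ V)
    (hcj : IsClosedImmersion (j ∣_ V))
    (hseq : ∃ (c : ℕ) (h : Fin c → Γ(X, V)), FSeq .quasi h ∧ Ideal.span (Set.range h) = RingHom.ker ((i ≫ j).app V).hom)
    (hS : ∀ 𝔞 : Ideal Γ(X, V), RingHom.ker ((i ≫ j).app V).hom ≤ 𝔞 →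
      RingHom.ker (j.app V).hom ⊓ 𝔞 * RingHom.ker ((i ≫ j).app V).hom ≤ 𝔞 * RingHom.ker (j.app V).hom) :
    RegImm.IsRegularImmersionAt .regular j (i z) := by
  classical
  have hnoeth : IsNoetherianRing Γ(X, V) := IsLocallyNoetherian.component_noetherian ⟨V, hV⟩
  obtain ⟨-, haU⟩ := GrothLib.RegSeqLoc.app_surjective_of_restrict j hV hcj
  obtain ⟨c, h, hh, hspan⟩ := hseq
  have hcomp : ∀ x, (i ≫ j).app V x = i.app (j ⁻¹ᵁ V) (j.app V x) := fun x => by rw [Scheme.Hom.comp_app]; rfl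
  set I := RingHom.ker (j.app V).hom with hI
  set J := RingHom.ker ((i ≫ j).app V).hom with hJ
  have hIJ : I ≤ J := fun x hx => by
    rw [hJ, RingHom.mem_ker]
    show (i ≫ j).app V x = 0
    rw [hcomp, show j.app V x = 0 from hx, map_zero]
  let x := (i ≫ j) z
  let p := (hV.primeIdealOf ⟨x, hzV⟩).asIdeal
  have hp : J ≤ p := fun y hy => by
    by_contra hyp
    have h1 := (GrothLib.LCI6.mem_basicOpen_iff_notMem hV hzV y).2 hyp
    have h2 : z ∈ (i ≫ j) ⁻¹ᵁ X.basicOpen y := h1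
    rw [Scheme.preimage_basicOpen, show (i ≫ j).app V y = 0 from hy, Scheme.basicOpen_zero] at h2
    exact h2
  obtain ⟨m, f, hf, hgen, hmin⟩ := exists_minimal_generators (p := p) (IsNoetherian.noetherian I)
  have hind : ∀ a : Fin m → Γ(X, V), ∑ i, a i * f i ∈ p * J → ∀ i, a i ∈ p := fun a ha => hmin a
    (hS p hp ⟨sum_mem fun i _ => Ideal.mul_mem_left _ _ (hf i), ha⟩)
  obtain ⟨g, hg, n, hn, a, T, hT, hIg, hTa⟩ := exists_adapted_split h p f hf (hspan ▸ hIJ) hgen
    (fun a ha => hind a (hspan ▸ ha))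
  let R := Localization.Away g
  let α := algebraMap Γ(X, V) R
  let L := X.presheaf.stalk x
  let γ := (X.presheaf.germ V x hzV).hom
  haveI : IsNoetherianRing L := by
    letI : Algebra Γ(X, V) L := TopCat.Presheaf.algebra_section_stalk X.presheaf (⟨x, hzV⟩ : V)
    haveI := hV.isLocalization_stalk ⟨x, hzV⟩
    exact IsLocalization.isNoetherianRing (hV.primeIdealOf ⟨x, hzV⟩).asIdeal.primeCompl L hnoeth
  have hxg : x ∈ X.basicOpen g := (GrothLib.LCI6.mem_basicOpen_iff_notMem hV hzV g).2 hg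
  have hgu : IsUnit (γ g) := (X.mem_basicOpen g x hzV).1 hxg
  let l : R →+* L := IsLocalization.Away.lift g hgu
  have hl : ∀ y, l (α y) = γ y := fun y => IsLocalization.Away.lift_eq g hgu y
  have hfull : FSeq .quasi (Fin.append (l ∘ a) (γ ∘ f)) := by
    have h1 := ((hh.map γ (GrothLib.RelReg.flat_germ hV hzV)).cast hn).mulVec (T.map l) (by
      show IsUnit (l.mapMatrix T).det
      rw [← RingHom.map_det]; exact hT.map l)
    convert h1 using 1
    funext t
    have h2 : (T.map l).mulVec ((γ ∘ h) ∘ Fin.cast hn) t = l (T.mulVec (fun t => α (h (Fin.cast hn t))) t) := by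
      rw [RingHom.map_mulVec]
      congr 1
      funext s
      exact (hl _).symm
    rw [h2, hTa]
    induction t using Fin.addCases with
    | left t => simp
    | right t => simp [hl, α, R]
  have hswap : CAlgX.IsQuasiRegular (Fin.append (γ ∘ f) (l ∘ a)) := by
    have h1 : CAlgX.IsQuasiRegular (Fin.append (l ∘ a) (γ ∘ f) ∘ Fin.cast (add_comm m n)) :=
      hfull.cast (add_comm m n)
    refine GrothLib.QReg26.isQuasiRegular_of_span_eq _ _ h1 (congrArg Ideal.span ?_)
    have hsj : Set.range (Fin.cast (add_comm m n)) = Set.univ := (finCongr (add_comm m n)).surjective.range_eq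
    rw [Set.range_comp, hsj, Set.image_univ]
    ext y
    constructor
    · rintro ⟨t, rfl⟩
      induction t using Fin.addCases with
      | left t => exact ⟨Fin.natAdd n t, by simp⟩
      | right t => exact ⟨Fin.castAdd m t, by simp⟩
    · rintro ⟨t, rfl⟩
      induction t using Fin.addCases with
      | left t => exact ⟨Fin.natAdd m t, by simp⟩
      | right t => exact ⟨Fin.castAdd n t, by simp⟩
  have hm : ∀ y ∈ J, γ y ∈ IsLocalRing.maximalIdeal L := fun y hy => by
    by_contra hu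
    exact (GrothLib.LCI6.mem_basicOpen_iff_notMem hV hzV y).1
      ((X.mem_basicOpen y x hzV).2 (IsLocalRing.notMem_maximalIdeal.mp hu)) (hp hy)
  have hJR : Ideal.span (Set.range (Fin.append a fun i => α (f i))) = J.map α := by
    rw [← hTa, span_mulVec T hT, ← hspan, Ideal.map_span]
    congr 1
    ext y
    constructor
    · rintro ⟨t, rfl⟩; exact ⟨_, ⟨_, rfl⟩, rfl⟩
    · rintro ⟨_, ⟨t, rfl⟩, rfl⟩; exact ⟨Fin.cast hn.symm t, by simp [α]; rfl⟩
  have hJL : ∀ y ∈ J.map α, l y ∈ IsLocalRing.maximalIdeal L := fun y hy =>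
    (Ideal.map_le_iff_le_comap.2 (fun w hw => Ideal.mem_comap.2 (show l (α w) ∈ _ by rw [hl]; exact hm w hw)) :
      J.map α ≤ (IsLocalRing.maximalIdeal L).comap l) hy
  have hwreg := GrothLib.SeqKinds.isWeaklyRegular_of_isQuasiRegular _ (fun t => by
    induction t using Fin.addCases with
    | left t => rw [Fin.append_left]; exact hm _ (hIJ (hf t))
    | right t =>
      rw [Fin.append_right]
      exact hJL _ (hJR.le (Ideal.subset_span ⟨Fin.castAdd m t, Fin.append_left a _ t⟩))) hswap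
  rw [List.ofFn_fin_append, RingTheory.Sequence.isWeaklyRegular_append_iff] at hwreg
  have hq : CAlgX.IsQuasiRegular (γ ∘ f) := by
    have hk := GrothLib.SeqKinds.isQuasiRegular_of_isH1Regular _
      (GrothLib.SeqKinds.isH1Regular_of_isKoszulRegularSeq _
        (GrothLib.KoszulFwd.isKoszulRegularSeq_of_isWeaklyRegular _ hwreg.1))
    have := (fSeq_of_seq (k := .quasi) (fun h => by cases h) (List.ofFn (γ ∘ f)) hk).cast
      (List.length_ofFn (f := γ ∘ f)).symm
    have e : (List.ofFn (γ ∘ f)).get ∘ Fin.cast (List.length_ofFn (f := γ ∘ f)).symm = γ ∘ f := by funext t; simp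
    rw [e] at this
    exact this
  have hreg := GrothLib.SeqKinds.isRegular_of_isQuasiRegular _ (fun t => hm _ (hIJ (hf t))) hq
  have hIL : I.map γ = Ideal.ofList (List.ofFn (γ ∘ f)) := by
    rw [LCI6.ofList_ofFn, ← show l.comp α = γ from RingHom.ext hl, ← Ideal.map_map, hIg, Ideal.map_span,
      ← Set.range_comp]
    rfl
  obtain ⟨g', hg', rs', hrs', hI'⟩ := GrothLib.RegSeqLoc.exists_basicOpen_isRegular hV hzV I _ hreg hIL
  exact ⟨⟨X.basicOpen g', hV.basicOpen g'⟩, hg', LCI6.isClosedImmersion_basicOpen j hcj g', rs', hrs',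
    (LCI6.ker_app_basicOpen j hV haU g').trans hI'⟩

/-- Near a point a split conormal sequence and regularity of the composition give both regularities. -/
theorem regular_of_split [IsImmersion i] [IsImmersion j] [QuasiCompact i] [QuasiCompact j] [IsLocallyNoetherian X]
    (a : (Scheme.Modules.pullback i).obj (Omega.conormal j) ⟶ Omega.conormal (i ≫ j))
    (ha : OmegaSh.IsConormalMap (i ≫ j) j (𝟙 X) i a) (z : Z) {U : Z.Opens} (hzU : z ∈ U)
    (ρ : (Scheme.Modules.restrictFunctor U.ι).obj (Omega.conormal (i ≫ j)) ⟶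
      (Scheme.Modules.restrictFunctor U.ι).obj ((Scheme.Modules.pullback i).obj (Omega.conormal j)))
    (hρ : (Scheme.Modules.restrictFunctor U.ι).map a ≫ ρ = 𝟙 _)
    (hij : RegImm.IsRegularImmersionAt .regular (i ≫ j) z) :
    RegImm.IsRegularImmersionAt .regular i z ∧ RegImm.IsRegularImmersionAt .regular j (i z) := by
  haveI : IsLocallyNoetherian Y := LocallyOfFiniteType.isLocallyNoetherian j
  haveI : LocallyOfFinitePresentation j := ⟨fun {U} hU {V} hV e => by
    haveI : IsNoetherianRing Γ(X, U) := IsLocallyNoetherian.component_noetherian ⟨U, hU⟩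
    exact RingHom.FinitePresentation.of_finiteType.1 (j.finiteType_appLE hU hV e)⟩
  obtain ⟨V₀, hV₀, hzV₀, hle, hcij₀, hcj₀, hci₀⟩ := exists_chart i j z U hzU
  obtain ⟨U₁, hU₁, hz₁, hc₁, hs₁⟩ := exists_fSeq_of_at (k := .quasi) (fun h => by cases h) (i ≫ j) z
    (LCI6.isRegularImmersionAt_quasi _ z hij)
  obtain ⟨g₀, g₁, hg, hzg⟩ := exists_basicOpen_le_affine_inter hV₀ hU₁ ((i ≫ j) z) ⟨hzV₀, hz₁⟩
  have hseq := exists_fSeq_basicOpen (i ≫ j) hU₁ hc₁ hs₁ g₁ _ hg
  obtain ⟨hcij, -⟩ := chart_basicOpen (i ≫ j) hV₀ hcij₀ g₀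
  obtain ⟨hcj, -⟩ := chart_basicOpen j hV₀ hcj₀ g₀
  have hci : IsClosedImmersion (i ∣_ (j ⁻¹ᵁ X.basicOpen g₀)) := by
    have h1 := hcij
    rw [morphismRestrict_comp] at h1
    haveI := h1
    haveI := hcj
    exact IsClosedImmersion.of_comp (i ∣_ (j ⁻¹ᵁ X.basicOpen g₀)) (j ∣_ X.basicOpen g₀)
  have hS := fun 𝔞 h => inter_le_of_split i j a ha (hV₀.basicOpen g₀) hcij hcj hci
    (exists_retraction a ρ hρ (((i ≫ j).preimage_mono (X.basicOpen_le g₀)).trans hle)) 𝔞 h
  exact ⟨LCI6.isRegularImmersionAt_of_kind i z (at_of_local i j (fun _ => ‹_›) (hV₀.basicOpen g₀) z hzg hcj hci hseq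
      (fun h => by cases h) hS) _,
    at_left_of_local i j (hV₀.basicOpen g₀) z hzg hcj hseq hS⟩

/-- Morphisms out of the structure sheaf agreeing at one. -/
theorem hom_ext_one {W : Scheme.{u}} {N : W.Modules} {f g : Coh.structureModule W ⟶ N}
    (h : ∀ T : W.Opens, f.app T (FinCov.one W T) = g.app T (FinCov.one W T)) : f = g :=
  N.unitHomEquiv.injective (Subtype.ext (funext fun T => h T.unop))

/-- The conormal sequence is split near a point where the second immersion is regular. -/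
theorem exists_splitting [IsImmersion i] [IsImmersion j] [QuasiCompact i] [QuasiCompact j]
    (a : (Scheme.Modules.pullback i).obj (Omega.conormal j) ⟶ Omega.conormal (i ≫ j))
    (ha : OmegaSh.IsConormalMap (i ≫ j) j (𝟙 X) i a)
    (b : (Scheme.Modules.pullback (𝟙 Z)).obj (Omega.conormal (i ≫ j)) ⟶ Omega.conormal i)
    (hb : OmegaSh.IsConormalMap i (i ≫ j) j (𝟙 Z) b) (z : Z) (hi : RegImm.IsRegularImmersionAt .h1 i z) :
    ∃ U : Z.Opens, z ∈ U ∧
      ∀ w : (Scheme.Modules.restrictFunctor U.ι).map a ≫ (Scheme.Modules.restrictFunctor U.ι).map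
          ((Scheme.Modules.pullbackId Z).inv.app (Omega.conormal (i ≫ j)) ≫ b) = 0,
        Nonempty (ShortComplex.mk ((Scheme.Modules.restrictFunctor U.ι).map a) ((Scheme.Modules.restrictFunctor U.ι).map
          ((Scheme.Modules.pullbackId Z).inv.app (Omega.conormal (i ≫ j)) ≫ b)) w).Splitting := by
  classical
  set bb := (Scheme.Modules.pullbackId Z).inv.app (Omega.conormal (i ≫ j)) ≫ b with hbb
  obtain ⟨U₀, hzU₀, hci₀, rs, hrs, hker⟩ := hi
  obtain ⟨hsi, hT⟩ := GrothLib.RegSeqLoc.app_surjective_of_restrict i U₀.2 hci₀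
  have hloc := exists_small_exact i j a ha b hb (i ⁻¹ᵁ U₀.1) fun z' hz' => ⟨U₀, hz', hci₀, rs, hrs, hker⟩
  -- a frame of the conormal module near `z`
  have hs : i.ker.ideal U₀ = Ideal.span (Set.range rs.get) := by rw [i.ker_apply, hker, Set.range_list_get]
  obtain ⟨e⟩ : Nonempty ((Fin rs.length → Γ(Z, i ⁻¹ᵁ U₀.1)) ≃ₗ[Γ(Z, i ⁻¹ᵁ U₀.1)] Γ(Omega.conormal i, i ⁻¹ᵁ U₀.1)) :=
    exists_equiv_sections i i.ker le_rfl U₀ rs.get hs
      (fun a ha k => hs ▸ mem_span_of_h1 hrs ha k) ⟨i ⁻¹ᵁ U₀.1, hT⟩ le_rfl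
  haveI := H1Sheaf6.isQuasicoherent_idealMod i.ker
  haveI : (Omega.conormal i).IsQuasicoherent := FittSheaf.isQuasicoherent_pullback i _
  have hfr : FinCov.IsFrame (Omega.conormal i) (i ⁻¹ᵁ U₀.1) (fun k => e (Pi.single k 1)) := by
    refine Adj27.isFrame_of_affine _ hT _ ?_
    have : ⇑(Fintype.linearCombination Γ(Z, i ⁻¹ᵁ U₀.1) fun k => e (Pi.single k 1)) = ⇑e := funext fun b => by
      rw [Fintype.linearCombination_apply]
      simp only [← map_smul, ← map_sum]
      congr 1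
      funext k
      simp [Finset.sum_apply, Pi.single_apply]
    show Function.Bijective ⇑(Fintype.linearCombination Γ(Z, i ⁻¹ᵁ U₀.1) fun k => e (Pi.single k 1))
    rw [this]
    exact e.bijective
  obtain ⟨W, hzW, hWT, -, hsur, -, -⟩ := hloc z (i ⁻¹ᵁ U₀.1) hzU₀ le_rfl
  refine ⟨W, hzW, fun w => ?_⟩
  let F := Scheme.Modules.restrictFunctor W.ι
  let S := ShortComplex.mk (F.map a) (F.map bb) w
  have hSE : S.ShortExact := shortExact_of_small S fun y O hy => by
    have hle : W.ι ''ᵁ O ≤ i ⁻¹ᵁ U₀.1 := by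
      refine le_trans ?_ hWT
      rintro _ ⟨y, -, rfl⟩
      exact y.2
    obtain ⟨W', h1, h2, h3, h4, h5, -⟩ := hloc (W.ι y) (W.ι ''ᵁ O) ⟨y, hy, rfl⟩ hle
    obtain ⟨T, rfl⟩ : ∃ T : W.toScheme.Opens, W.ι ''ᵁ T = W' := ⟨W.ι ⁻¹ᵁ W', by
      rw [Scheme.Hom.image_preimage_eq_opensRange_inf, Scheme.Opens.opensRange_ι]
      refine inf_eq_right.2 (h2.trans ?_)
      rintro _ ⟨y, -, rfl⟩
      exact y.2⟩
    exact ⟨T, (Scheme.Hom.apply_mem_image_iff W.ι).1 h1, ((Scheme.Hom.image_le_image_iff W.ι) _ _).1 h2, h3, h4, h5⟩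
  -- the section
  have hfrW : FinCov.IsFrame (Omega.conormal i) W
      (fun k => (Omega.conormal i).presheaf.map (homOfLE hWT).op (e (Pi.single k 1))) := fun V h => by
    have := hfr V (h.trans hWT)
    convert this using 3 with c
    rw [← ConcreteCategory.comp_apply, ← Functor.map_comp]; rfl
  obtain ⟨φ⟩ := FinCov.exists_iso_of_frame hfrW
  have hsurtop : Function.Surjective ((F.map bb).app ⊤) := by
    have key : ∀ W' : Z.Opens, W' = W → Function.Surjective (bb.app W') := by rintro _ rfl; exact hsur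
    exact key _ (Scheme.Opens.ι_image_top W)
  choose σ hσ using fun k => hsurtop ((Sigma.ι (fun _ : Fin rs.length => Coh.structureModule W.toScheme) k ≫ φ.inv).app ⊤
    (FinCov.one W.toScheme ⊤))
  let sec : FlatMod.freeMod W.toScheme rs.length ⟶ F.obj (Omega.conormal (i ≫ j)) :=
    Sigma.desc fun k => FinCov.homOfSection (σ k)
  have hsec : sec ≫ F.map bb = φ.inv := by
    refine Sigma.hom_ext _ _ fun k => ?_
    rw [Sigma.ι_desc_assoc]
    refine hom_ext_one fun T => ?_
    show (F.map bb).app T ((FinCov.homOfSection (σ k)).app T (FinCov.one _ T)) = _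
    rw [FinCov.homOfSection_one, ← QCoh.map_app, hσ k, QCoh.map_app]
    exact congrArg _ (map_one ((W.toScheme.presheaf.map (homOfLE (le_top : T ≤ ⊤)).op).hom))
  haveI := hSE.mono_f
  exact ⟨ShortComplex.Splitting.ofExactOfSection S hSE.exact (φ.hom ≫ sec)
    (by rw [Category.assoc]; show φ.hom ≫ sec ≫ F.map bb = _; rw [hsec, φ.hom_inv_id]) hSE.mono_f⟩

open OmegaSh (conormalSect pullSect)
open GrothLib.IdealModSec (val)

/-- The conormal sequence is a complex. -/
theorem conormal_comp_eq_zero [IsImmersion i] [IsImmersion j] [QuasiCompact i] [QuasiCompact j]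
    (a : (Scheme.Modules.pullback i).obj (Omega.conormal j) ⟶ Omega.conormal (i ≫ j))
    (ha : OmegaSh.IsConormalMap (i ≫ j) j (𝟙 X) i a)
    (b : (Scheme.Modules.pullback (𝟙 Z)).obj (Omega.conormal (i ≫ j)) ⟶ Omega.conormal i)
    (hb : OmegaSh.IsConormalMap i (i ≫ j) j (𝟙 Z) b) :
    a ≫ ((Scheme.Modules.pullbackId Z).inv.app (Omega.conormal (i ≫ j)) ≫ b) = 0 := by
  set bb := (Scheme.Modules.pullbackId Z).inv.app (Omega.conormal (i ≫ j)) ≫ b with hbb
  refine Scheme.Modules.hom_ext _ _ fun O => ConcreteCategory.hom_ext _ _ fun l => ?_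
  have hloc : ∀ z : O, ∃ W : Z.Opens, z.1 ∈ W ∧ W ≤ O ∧ ∀ l, bb.app W (a.app W l) = 0 := by
    intro z
    obtain ⟨V, hV, hzV, hle, hcij, hcj, hci⟩ := exists_chart i j z.1 O z.2
    obtain ⟨-, haij⟩ := GrothLib.RegSeqLoc.app_surjective_of_restrict (i ≫ j) hV hcij
    obtain ⟨hsj, haU⟩ := GrothLib.RegSeqLoc.app_surjective_of_restrict j hV hcj
    obtain ⟨hsi, -⟩ := GrothLib.RegSeqLoc.app_surjective_of_restrict i haU hci
    haveI := H1Sheaf6.isQuasicoherent_idealMod j.ker
    haveI : (Omega.conormal j).IsQuasicoherent := FittSheaf.isQuasicoherent_pullback j _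
    refine ⟨(i ≫ j) ⁻¹ᵁ V, hzV, hle, fun l => ?_⟩
    obtain ⟨t, rfl⟩ := (pullSect_surjective_and_ker i haU haij hsi _).1 l
    obtain ⟨m, rfl⟩ := (pullSect_surjective_and_ker j hV haU hsj _).1 t
    obtain ⟨m', hm'⟩ : ∃ m' : Γ(ClSub.idealMod (i ≫ j).ker, V), val (i ≫ j).ker V m' = val j.ker V m := by
      refine IdealModSec.exists_val_eq (i ≫ j).ker ⟨V, hV⟩ ?_
      rw [Scheme.Hom.ker_apply, RingHom.mem_ker]
      show (i ≫ j).app V (val j.ker V m) = 0
      rw [Scheme.Hom.comp_app]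
      show i.app (j ⁻¹ᵁ V) (j.app V (val j.ker V m)) = 0
      rw [show j.app V (val j.ker V m) = 0 from H1Sheaf6.app_val_eq_zero j V m, map_zero]
    have h1 : a.app ((i ≫ j) ⁻¹ᵁ V) (pullSect i (Omega.conormal j) (j ⁻¹ᵁ V) (conormalSect j V m)) =
        conormalSect (i ≫ j) V m' := by
      have := ha.2 V m m' hm' ((i ≫ j) ⁻¹ᵁ V) le_rfl le_rfl
      exact (mres_le_self _ _ _).symm.trans (this.trans (mres_le_self _ _ _))
    refine (congrArg (bb.app _) h1).trans ?_
    have h2 := hb.2 V m' 0 (by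
      show val i.ker (j ⁻¹ᵁ V) 0 = j.app V (val (i ≫ j).ker V m')
      rw [IdealModSec.val_zero, hm']
      exact (H1Sheaf6.app_val_eq_zero j V m).symm) ((i ≫ j) ⁻¹ᵁ V) le_rfl le_rfl
    show b.app _ (((Scheme.Modules.pullbackId Z).inv.app (Omega.conormal (i ≫ j))).app _ (conormalSect (i ≫ j) V m')) = _
    rw [PPGen.pullbackId_inv_app]
    exact (mres_le_self _ _ _).symm.trans (h2.trans ((mres_le_self _ _ _).trans (map_zero _)))
  choose W hzW hWO hzero using hloc
  refine Ample.meq_of_cover (Omega.conormal i) W hWO (fun y hy => Opens.mem_iSup.2 ⟨⟨y, hy⟩, hzW _⟩) fun x => ?_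
  rw [← Ample.app_mres, ← Ample.app_mres]
  exact hzero x (mres _ (hWO x) l)

end GrothLib.RegImm12
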