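import Groth.Agent.Lib.RegImm12.ConormalSeq
import Groth.Agent.Lib.RegImm12.PermanenceAlg
import Groth.Agent.Lib.LCI6.LocusScheme
import Groth.Agent.Lib.LCI6.Invariance
import Mathlib.AlgebraicGeometry.Morphisms.FinitePresentation

/-!
# Permanence of regular immersions along a split conormal sequence
-/

set_option autoImplicit false
set_option linter.all false
set_option maxHeartbeats 1000000
set_option backward.isDefEq.respectTransparency false
set_option backward.isDefEq.respectTransparency.types false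
universe u

open CategoryTheory CategoryTheory.Limits AlgebraicGeometry Opposite TopologicalSpace

noncomputable section

namespace GrothLib.RegImm12

open GrothLib.IdealModSec (val)
open OmegaSh (conormalSect pullSect)

/-- A sequence of kind Koszul, `H_1` or quasi regular. -/
def FSeq (k : RegImm.Kind) {R : Type u} [CommRing R] {c : ℕ} (f : Fin c → R) : Prop :=
  match k with
  | .regular => False
  | .koszul => LCI.IsKoszulRegularSeq R (List.ofFn f)
  | .h1 => CAlgX.IsH1Regular f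
  | .quasi => CAlgX.IsQuasiRegular f

section FSeq

variable {k : RegImm.Kind} {R S : Type u} [CommRing R] [CommRing S]

theorem fSeq_of_seq (hk : k ≠ .regular) (rs : List R) (h : k.Seq R rs) : FSeq k rs.get := by
  cases k with
  | regular => exact absurd rfl hk
  | koszul => show LCI.IsKoszulRegularSeq R (List.ofFn rs.get); rw [List.ofFn_get]; exact h
  | h1 => exact h
  | quasi => exact h

theorem seq_of_fSeq {c : ℕ} {f : Fin c → R} (h : FSeq k f) : k.Seq R (List.ofFn f) := by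
  cases k with
  | regular => exact h.elim
  | koszul => exact h
  | h1 => exact (seq_get_ofFn f).2 h
  | quasi => exact (seq_get_ofFn f).1 h

theorem FSeq.cast {c c' : ℕ} (hc : c' = c) {f : Fin c → R} (h : FSeq k f) : FSeq k (f ∘ Fin.cast hc) := by
  subst hc; exact h

theorem FSeq.map {c : ℕ} {f : Fin c → R} (h : FSeq k f) (φ : R →+* S) (hφ : φ.Flat) : FSeq k (φ ∘ f) := by
  cases k with
  | regular => exact h
  | koszul =>
    have := GrothLib.KoszulColon.isKoszulRegularSeq_map φ hφ _ h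
    rw [List.map_ofFn] at this
    exact this
  | h1 => exact SeqKinds.isH1Regular_map φ hφ f h
  | quasi => exact SeqKinds.isQuasiRegular_map φ hφ f h

theorem FSeq.mulVec {c : ℕ} {f : Fin c → R} (h : FSeq k f) (T : Matrix (Fin c) (Fin c) R) (hT : IsUnit T.det) :
    FSeq k (T.mulVec f) := by
  cases k with
  | regular => exact h
  | koszul => exact LCI6.isKoszulRegularSeq_mulVec T hT f h
  | h1 => exact isH1Regular_mulVec T hT h
  | quasi => exact QReg26.isQuasiRegular_of_span_eq f _ h (span_mulVec T hT f)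

theorem FSeq.quotient (ψ : R →+* S) (hψ : Function.Surjective ψ) {n m : ℕ} (a : Fin n → R) (f : Fin m → R)
    (hker : RingHom.ker ψ = Ideal.span (Set.range f)) (hf : k = .koszul → LCI.IsKoszulRegularSeq R (List.ofFn f))
    (h : FSeq k (Fin.append a f)) : FSeq k (ψ ∘ a) := by
  cases k with
  | regular => exact h
  | koszul =>
    show LCI.IsKoszulRegularSeq S (List.ofFn (ψ ∘ a))
    rw [← List.map_ofFn]
    have h' : LCI.IsKoszulRegularSeq R (List.ofFn a ++ List.ofFn f) := by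
      rw [← List.ofFn_fin_append]; exact h
    exact (LCI6.isKoszulRegularSeq_append_iff ψ hψ _ _ (hf rfl) (by rw [hker, LCI6.ofList_ofFn])).1 h'
  | h1 => exact isH1Regular_quotient ψ hψ a f hker h
  | quasi => exact isQuasiRegular_quotient ψ hψ a f hker h

end FSeq

/-- Sequences on a smaller basic open of a chart. -/
theorem exists_fSeq_basicOpen {k : RegImm.Kind} {Z Y : Scheme.{u}} (i : Z ⟶ Y) {U : Y.Opens} (hU : IsAffineOpen U)
    (hci : IsClosedImmersion (i ∣_ U))
    (h : ∃ (c : ℕ) (f : Fin c → Γ(Y, U)), FSeq k f ∧ Ideal.span (Set.range f) = RingHom.ker (i.app U).hom)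
    (g : Γ(Y, U)) (W : Y.Opens) (hW : W = Y.basicOpen g) :
    ∃ (c : ℕ) (f : Fin c → Γ(Y, W)), FSeq k f ∧ Ideal.span (Set.range f) = RingHom.ker (i.app W).hom := by
  subst hW
  obtain ⟨c, f, hf, hs⟩ := h
  refine ⟨c, _, hf.map _ (flat_res_basicOpen hU g), ?_⟩
  rw [(chart_basicOpen i hU hci g).2, ← hs, Ideal.map_span, ← Set.range_comp]

theorem exists_fSeq_of_at {k : RegImm.Kind} (hk : k ≠ .regular) {Z Y : Scheme.{u}} (i : Z ⟶ Y) (z : Z)
    (h : RegImm.IsRegularImmersionAt k i z) :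
    ∃ U : Y.Opens, IsAffineOpen U ∧ i z ∈ U ∧ IsClosedImmersion (i ∣_ U) ∧
      ∃ (c : ℕ) (f : Fin c → Γ(Y, U)), FSeq k f ∧ Ideal.span (Set.range f) = RingHom.ker (i.app U).hom := by
  obtain ⟨U, hz, hci, rs, hrs, hker⟩ := h
  exact ⟨U.1, U.2, hz, hci, rs.length, rs.get, fSeq_of_seq hk rs hrs, by rw [hker, Set.range_list_get]⟩

/-- The local form of permanence. -/
theorem at_of_local {k : RegImm.Kind} {Z Y X : Scheme.{u}} (i : Z ⟶ Y) (j : Y ⟶ X)
    (hlfp : k ≠ .koszul → LocallyOfFinitePresentation j)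
    {V : X.Opens} (hV : IsAffineOpen V) (z : Z) (hzV : (i ≫ j) z ∈ V) (hcj : IsClosedImmersion (j ∣_ V))
    (hci : IsClosedImmersion (i ∣_ (j ⁻¹ᵁ V)))
    (hseq : ∃ (c : ℕ) (h : Fin c → Γ(X, V)), FSeq k h ∧ Ideal.span (Set.range h) = RingHom.ker ((i ≫ j).app V).hom)
    (hkos : k = .koszul → ∃ (m : ℕ) (F : Fin m → Γ(X, V)), FSeq .koszul F ∧
      Ideal.span (Set.range F) = RingHom.ker (j.app V).hom)
    (hS : ∀ 𝔞 : Ideal Γ(X, V), RingHom.ker ((i ≫ j).app V).hom ≤ 𝔞 →
      RingHom.ker (j.app V).hom ⊓ 𝔞 * RingHom.ker ((i ≫ j).app V).hom ≤ 𝔞 * RingHom.ker (j.app V).hom) :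
    RegImm.IsRegularImmersionAt k i z := by
  classical
  obtain ⟨hsj, haU⟩ := GrothLib.RegSeqLoc.app_surjective_of_restrict j hV hcj
  set φ := (j.app V).hom with hφ
  set I := RingHom.ker φ with hI
  obtain ⟨c, h, hh, hspan⟩ := hseq
  set J := RingHom.ker ((i ≫ j).app V).hom with hJ
  have hcomp : ∀ x, (i ≫ j).app V x = i.app (j ⁻¹ᵁ V) (φ x) := fun x => by rw [Scheme.Hom.comp_app]; rfl
  have hIJ : I ≤ J := fun x hx => by
    rw [hJ, RingHom.mem_ker]
    show (i ≫ j).app V x = 0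
    rw [hcomp, show φ x = 0 from hx, map_zero]
  have hkeri : RingHom.ker (i.app (j ⁻¹ᵁ V)).hom = J.map φ := by
    refine le_antisymm (fun y hy => ?_) (Ideal.map_le_iff_le_comap.2 fun x hx => (hcomp x).symm.trans hx)
    obtain ⟨x, rfl⟩ := hsj y
    exact Ideal.mem_map_of_mem _ (show x ∈ J from (hcomp x).trans hy)
  let p := (hV.primeIdealOf ⟨(i ≫ j) z, hzV⟩).asIdeal
  have hp : J ≤ p := fun x hx => by
    by_contra hxp
    have h1 := (GrothLib.LCI6.mem_basicOpen_iff_notMem hV hzV x).2 hxp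
    have h2 : z ∈ (i ≫ j) ⁻¹ᵁ X.basicOpen x := h1
    rw [Scheme.preimage_basicOpen, show (i ≫ j).app V x = 0 from hx, Scheme.basicOpen_zero] at h2
    exact h2
  -- adapted generators of the kernel
  obtain ⟨m, f, hf, hgen, hind, hfk⟩ : ∃ (m : ℕ) (f : Fin m → Γ(X, V)), (∀ i, f i ∈ I) ∧
      (∃ s, s ∉ p ∧ ∀ x ∈ I, s * x ∈ Ideal.span (Set.range f)) ∧
      (∀ a : Fin m → Γ(X, V), ∑ i, a i * f i ∈ p * J → ∀ i, a i ∈ p) ∧ (k = .koszul → FSeq .koszul f) := by
    by_cases hk : k = .koszul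
    · obtain ⟨m, F, hF, hFI⟩ := hkos hk
      have hFI' : Ideal.span (Set.range F) = I := hFI
      refine ⟨m, F, fun i => hFI'.le (Ideal.subset_span ⟨i, rfl⟩),
        ⟨1, fun h' => (inferInstance : p.IsPrime).ne_top ((Ideal.eq_top_iff_one p).2 h'), fun x hx => by
          rw [one_mul]; exact hFI'.ge hx⟩, fun a ha i => ?_, fun _ => hF⟩
      have hh1 : CAlgX.IsH1Regular F := by
        have := GrothLib.SeqKinds.isH1Regular_of_isKoszulRegularSeq _ hF
        exact (fSeq_of_seq (k := .h1) (fun h => by cases h) _ this : FSeq .h1 (List.ofFn F).get).cast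
          (List.length_ofFn (f := F)).symm |> fun h' => by
            have e : (List.ofFn F).get ∘ Fin.cast (List.length_ofFn (f := F)).symm = F := by funext t; simp
            rw [e] at h'
            exact h'
      have hmem : ∑ i, a i * F i ∈ p * I :=
        hS p hp ⟨sum_mem fun i _ => Ideal.mul_mem_left _ _ (hFI'.le (Ideal.subset_span ⟨i, rfl⟩)), ha⟩
      rw [← hFI'] at hmem
      obtain ⟨q, hq, hqs⟩ : ∃ q : Fin m → Γ(X, V), (∀ j, q j ∈ p) ∧ ∑ j, q j * F j = ∑ j, a j * F j := by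
        refine Submodule.mul_induction_on hmem (fun u hu v hv => ?_) ?_
        · obtain ⟨c, hc⟩ := Ideal.mem_span_range_iff_exists_fun.1 hv
          refine ⟨fun j => u * c j, fun j => Ideal.mul_mem_right _ _ hu, ?_⟩
          rw [← hc, Finset.mul_sum]
          exact Finset.sum_congr rfl fun j _ => mul_assoc _ _ _
        · rintro u v ⟨b, hb, e⟩ ⟨c, hc, e'⟩
          exact ⟨b + c, fun j => add_mem (hb j) (hc j), by simp [add_mul, Finset.sum_add_distrib, e, e']⟩
      have h0 := mem_span_of_h1 hh1 (a := fun j => a j - q j) (by simp [sub_mul, Finset.sum_sub_distrib, hqs]) i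
      have h1 : a i - q i ∈ p := (hFI'.le.trans (hIJ.trans hp)) h0
      simpa using add_mem h1 (hq i)
    · have hfg : I.FG := by
        haveI := hlfp hk
        have h' := j.finitePresentation_appLE hV haU le_rfl
        rw [← Scheme.Hom.app_eq_appLE] at h'
        algebraize [φ]
        exact Algebra.FinitePresentation.ker_fG_of_surjective (Algebra.ofId Γ(X, V) Γ(Y, j ⁻¹ᵁ V)) hsj
      obtain ⟨m, f, hf, hgen, hmin⟩ := exists_minimal_generators (p := p) hfg
      exact ⟨m, f, hf, hgen, fun a ha => hmin a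
        (hS p hp ⟨sum_mem fun i _ => Ideal.mul_mem_left _ _ (hf i), ha⟩), fun h' => absurd h' hk⟩
  obtain ⟨g, hg, n, hn, a, T, hT, hIg, hTa⟩ := exists_adapted_split h p f hf (hspan ▸ hIJ) hgen
    (fun a ha => hind a (hspan ▸ ha))
  -- the model on `Y`
  let R := Localization.Away g
  let α := algebraMap Γ(X, V) R
  let W := Y.basicOpen (φ g)
  letI := haU.isLocalization_basicOpen (φ g)
  let ψ : R →+* Γ(Y, W) := IsLocalization.map (M := Submonoid.powers g) (T := Submonoid.powers (φ g)) _ φ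
    (Submonoid.powers_le.mpr (Submonoid.mem_powers _))
  have hmap : (Submonoid.powers g).map φ = Submonoid.powers (φ g) := Submonoid.map_powers _ g
  have hψ : Function.Surjective ψ := by
    haveI : IsLocalization ((Submonoid.powers g).map φ) Γ(Y, W) := by rw [hmap]; infer_instance
    exact IsLocalization.map_surjective_of_surjective (M := Submonoid.powers g) _ _ hsj
  have hflat : α.Flat := RingHom.flat_algebraMap_iff.2 (IsLocalization.flat R (Submonoid.powers g))
  have hkψ : RingHom.ker ψ = Ideal.span (Set.range fun i => α (f i)) :=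
    (IsLocalization.ker_map Γ(Y, W) φ hmap).trans hIg
  have hfull : FSeq k (Fin.append a fun i => α (f i)) := by
    rw [← hTa]
    exact ((hh.map α hflat).cast hn).mulVec T hT
  have hres : FSeq k (ψ ∘ a) := hfull.quotient ψ hψ a (fun i => α (f i)) hkψ (fun e => by
    subst e; exact (hfk rfl).map α hflat)
  have hzW : i z ∈ W := by
    have h1 := (GrothLib.LCI6.mem_basicOpen_iff_notMem hV hzV g).2 hg
    have h2 : i z ∈ j ⁻¹ᵁ X.basicOpen g := h1
    rw [Scheme.preimage_basicOpen] at h2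
    exact h2
  obtain ⟨hciW, hkerW⟩ := chart_basicOpen i haU hci (φ g)
  refine ⟨⟨W, haU.basicOpen _⟩, hzW, hciW, List.ofFn (ψ ∘ a), seq_of_fSeq hres, ?_⟩
  rw [LCI6.ofList_ofFn]
  refine hkerW.trans ?_
  rw [hkeri, Ideal.map_map]
  have hcompψ : (Y.presheaf.map (homOfLE (Y.basicOpen_le (φ g))).op).hom.comp φ = ψ.comp α :=
    (IsLocalization.map_comp _).symm
  have hJR : J.map α = Ideal.span (Set.range (Fin.append a fun i => α (f i))) := by
    rw [← hTa, span_mulVec T hT, ← hspan, Ideal.map_span]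
    congr 1
    ext x
    constructor
    · rintro ⟨_, ⟨t, rfl⟩, rfl⟩; exact ⟨Fin.cast hn.symm t, by simp [α]; rfl⟩
    · rintro ⟨t, rfl⟩; exact ⟨_, ⟨_, rfl⟩, rfl⟩
  rw [hcompψ, ← Ideal.map_map, hJR, Ideal.map_span]
  refine le_antisymm (Ideal.span_le.2 ?_) (Ideal.span_le.2 ?_)
  · rintro _ ⟨_, ⟨t, rfl⟩, rfl⟩
    induction t using Fin.addCases with
    | left t => rw [Fin.append_left]; exact Ideal.subset_span ⟨t, rfl⟩
    | right t =>
      rw [Fin.append_right]
      have : ψ (α (f t)) = 0 := by rw [← RingHom.mem_ker, hkψ]; exact Ideal.subset_span ⟨t, rfl⟩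
      rw [this]; exact zero_mem _
  · rintro _ ⟨t, rfl⟩
    exact Ideal.subset_span ⟨a t, ⟨Fin.castAdd m t, Fin.append_left a _ t⟩, rfl⟩

section Split

variable {Z : Scheme.{u}}

/-- Short exact sequences are left exact on sections. -/
theorem exact_sections {S : ShortComplex Z.Modules} (hS : S.ShortExact) (W : Z.Opens) :
    Function.Injective (S.f.app W) ∧ ∀ m, S.g.app W m = 0 → ∃ l, S.f.app W l = m := by
  obtain ⟨hι, hex⟩ := IdealModSec.app_kernel S.g W
  let e := hS.fIsKernel.conePointUniqueUpToIso (kernelIsKernel S.g)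
  have he : e.hom ≫ kernel.ι S.g = S.f :=
    IsLimit.conePointUniqueUpToIso_hom_comp hS.fIsKernel (kernelIsKernel S.g) WalkingParallelPair.zero
  have hf : ∀ l, (kernel.ι S.g).app W (e.hom.app W l) = S.f.app W l := fun l => by
    show (e.hom ≫ kernel.ι S.g).app W l = _
    rw [he]; rfl
  have he' : ∀ l, e.inv.app W (e.hom.app W l) = l := fun l => by
    show (e.hom ≫ e.inv).app W l = l
    rw [e.hom_inv_id]; rfl
  refine ⟨fun l l' h' => ?_, fun m hm => ?_⟩
  · have := hι ((hf l).trans (h'.trans (hf l').symm))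
    rw [← he' l, ← he' l', this]
  · obtain ⟨x, hx⟩ := hex m hm
    refine ⟨e.inv.app W x, ?_⟩
    rw [← hf, ← hx]
    congr 1
    show (e.inv ≫ e.hom).app W x = x
    rw [e.inv_hom_id]; rfl

/-- A local section gives linear sections on smaller opens. -/
theorem exists_section {M N : Z.Modules} (φ : M ⟶ N) {U : Z.Opens}
    (r : (Scheme.Modules.restrictFunctor U.ι).obj N ⟶ (Scheme.Modules.restrictFunctor U.ι).obj M)
    (hr : r ≫ (Scheme.Modules.restrictFunctor U.ι).map φ = 𝟙 _) {W : Z.Opens} (hW : W ≤ U) :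
    ∃ s : Γ(N, W) →ₗ[Γ(Z, W)] Γ(M, W), ∀ n, φ.app W (s n) = n := by
  obtain ⟨T, rfl⟩ : ∃ T : U.toScheme.Opens, U.ι ''ᵁ T = W := ⟨U.ι ⁻¹ᵁ W, by
    rw [Scheme.Hom.image_preimage_eq_opensRange_inf, Scheme.Opens.opensRange_ι]
    exact inf_eq_right.2 hW⟩
  refine ⟨{
    toFun := fun n => r.app T n
    map_add' := fun a b => map_add (r.app T).hom a b
    map_smul' := fun c n => ?_ }, fun n => ?_⟩
  · have h1 := r.app_smul ((U.ι.appIso T).hom c) (show Γ((Scheme.Modules.restrictFunctor U.ι).obj N, T) from n)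
    have hc : (U.ι.appIso T).inv ((U.ι.appIso T).hom c) = c := by
      show ((U.ι.appIso T).hom ≫ (U.ι.appIso T).inv) c = c
      rw [Iso.hom_inv_id]; rfl
    have e : ∀ (L : Z.Modules) (x : Γ(L, U.ι ''ᵁ T)),
        (((U.ι.appIso T).hom c) • (show Γ((Scheme.Modules.restrictFunctor U.ι).obj L, T) from x) :
          Γ((Scheme.Modules.restrictFunctor U.ι).obj L, T)) = (c • x : Γ(L, U.ι ''ᵁ T)) := fun L x => by
      show (U.ι.appIso T).inv ((U.ι.appIso T).hom c) • x = c • x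
      rw [hc]
    rw [e N n] at h1
    exact h1.trans (e M _)
  · exact ConcreteCategory.congr_hom (congrArg (fun ψ => Scheme.Modules.Hom.app ψ T) hr) n

/-- A local retraction gives linear retractions on smaller opens. -/
theorem exists_retraction {M N : Z.Modules} (φ : M ⟶ N) {U : Z.Opens}
    (r : (Scheme.Modules.restrictFunctor U.ι).obj N ⟶ (Scheme.Modules.restrictFunctor U.ι).obj M)
    (hr : (Scheme.Modules.restrictFunctor U.ι).map φ ≫ r = 𝟙 _) {W : Z.Opens} (hW : W ≤ U) :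
    ∃ s : Γ(N, W) →ₗ[Γ(Z, W)] Γ(M, W), ∀ m, s (φ.app W m) = m := by
  obtain ⟨T, rfl⟩ : ∃ T : U.toScheme.Opens, U.ι ''ᵁ T = W := ⟨U.ι ⁻¹ᵁ W, by
    rw [Scheme.Hom.image_preimage_eq_opensRange_inf, Scheme.Opens.opensRange_ι]
    exact inf_eq_right.2 hW⟩
  refine ⟨{
    toFun := fun n => r.app T n
    map_add' := fun a b => map_add (r.app T).hom a b
    map_smul' := fun c n => ?_ }, fun n => ?_⟩
  · have h1 := r.app_smul ((U.ι.appIso T).hom c) (show Γ((Scheme.Modules.restrictFunctor U.ι).obj N, T) from n)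
    have hc : (U.ι.appIso T).inv ((U.ι.appIso T).hom c) = c := by
      show ((U.ι.appIso T).hom ≫ (U.ι.appIso T).inv) c = c
      rw [Iso.hom_inv_id]; rfl
    have e : ∀ (L : Z.Modules) (x : Γ(L, U.ι ''ᵁ T)),
        (((U.ι.appIso T).hom c) • (show Γ((Scheme.Modules.restrictFunctor U.ι).obj L, T) from x) :
          Γ((Scheme.Modules.restrictFunctor U.ι).obj L, T)) = (c • x : Γ(L, U.ι ''ᵁ T)) := fun L x => by
      show (U.ι.appIso T).inv ((U.ι.appIso T).hom c) • x = c • x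
      rw [hc]
    rw [e N n] at h1
    exact h1.trans (e M _)
  · exact ConcreteCategory.congr_hom (congrArg (fun ψ => Scheme.Modules.Hom.app ψ T) hr) n

/-- A section of the quotient of a short exact sequence gives retractions on sections. -/
theorem exists_retraction_of_section {A B C : Z.Modules} (a : A ⟶ B) (bb : B ⟶ C) (w : a ≫ bb = 0)
    (hex : (ShortComplex.mk a bb w).ShortExact) {U : Z.Opens}
    (r : (Scheme.Modules.restrictFunctor U.ι).obj C ⟶ (Scheme.Modules.restrictFunctor U.ι).obj B)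
    (hr : r ≫ (Scheme.Modules.restrictFunctor U.ι).map bb = 𝟙 _) {W : Z.Opens} (hW : W ≤ U) :
    ∃ ret : Γ(B, W) →ₗ[Γ(Z, W)] Γ(A, W), ∀ l, ret (a.app W l) = l := by
  obtain ⟨hainj, haex⟩ := exact_sections hex W
  obtain ⟨s, hs⟩ := exists_section bb r hr hW
  choose f hf using fun σ => haex (σ - s (bb.app W σ))
    (show bb.app W (σ - s (bb.app W σ)) = 0 by rw [map_sub]; exact sub_eq_zero.2 (hs _).symm)
  replace hf : ∀ σ, a.app W (f σ) = σ - s (bb.app W σ) := hf
  refine ⟨{ toFun := f, map_add' := fun x y => hainj ?_, map_smul' := fun c x => hainj ?_ }, fun l => hainj ?_⟩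
  · show a.app W (f (x + y)) = a.app W (f x + f y)
    rw [map_add, hf, hf, hf, map_add, map_add]
    abel
  · show a.app W (f (c • x)) = a.app W (c • f x)
    rw [a.app_smul, hf, hf, bb.app_smul, map_smul, smul_sub]
  · show a.app W (f (a.app W l)) = a.app W l
    rw [hf, show bb.app W (a.app W l) = 0 from
      ConcreteCategory.congr_hom (congrArg (fun ψ => Scheme.Modules.Hom.app ψ W) w) l, map_zero, sub_zero]

end Split

variable {Z Y X : Scheme.{u}} (i : Z ⟶ Y) (j : Y ⟶ X)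

/-- A retraction of the conormal map gives the compatibility of the ideals. -/
theorem inter_le_of_split [QuasiCompact i] [QuasiCompact j]
    (a : (Scheme.Modules.pullback i).obj (Omega.conormal j) ⟶ Omega.conormal (i ≫ j))
    (ha : OmegaSh.IsConormalMap (i ≫ j) j (𝟙 X) i a)
    {V : X.Opens} (hV : IsAffineOpen V) (hcij : IsClosedImmersion ((i ≫ j) ∣_ V))
    (hcj : IsClosedImmersion (j ∣_ V)) (hci : IsClosedImmersion (i ∣_ (j ⁻¹ᵁ V)))
    (hret : ∃ ret : Γ(Omega.conormal (i ≫ j), (i ≫ j) ⁻¹ᵁ V) →ₗ[Γ(Z, (i ≫ j) ⁻¹ᵁ V)]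
      Γ((Scheme.Modules.pullback i).obj (Omega.conormal j), (i ≫ j) ⁻¹ᵁ V), ∀ l, ret (a.app _ l) = l)
    (𝔞 : Ideal Γ(X, V)) (h𝔞 : RingHom.ker ((i ≫ j).app V).hom ≤ 𝔞) :
    RingHom.ker (j.app V).hom ⊓ 𝔞 * RingHom.ker ((i ≫ j).app V).hom ≤ 𝔞 * RingHom.ker (j.app V).hom := by
  classical
  obtain ⟨hsij, haij⟩ := GrothLib.RegSeqLoc.app_surjective_of_restrict (i ≫ j) hV hcij
  obtain ⟨hsj, haU⟩ := GrothLib.RegSeqLoc.app_surjective_of_restrict j hV hcj
  obtain ⟨hsi, -⟩ := GrothLib.RegSeqLoc.app_surjective_of_restrict i haU hci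
  haveI := H1Sheaf6.isQuasicoherent_idealMod j.ker
  haveI : (Omega.conormal j).IsQuasicoherent := FittSheaf.isQuasicoherent_pullback j _
  have hcomp : ∀ x, (i ≫ j).app V x = i.app (j ⁻¹ᵁ V) (j.app V x) := fun x => by rw [Scheme.Hom.comp_app]; rfl
  set I := RingHom.ker (j.app V).hom with hI
  set J := RingHom.ker ((i ≫ j).app V).hom with hJ
  have hIJ : I ≤ J := fun x hx => by
    rw [hJ, RingHom.mem_ker]
    show (i ≫ j).app V x = 0
    rw [hcomp, show j.app V x = 0 from hx, map_zero]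
  set W := (i ≫ j) ⁻¹ᵁ V with hW
  obtain ⟨ret, hret⟩ := hret
  let cl : Γ(ClSub.idealMod j.ker, V) → Γ((Scheme.Modules.pullback i).obj (Omega.conormal j), W) :=
    fun m => pullSect i (Omega.conormal j) (j ⁻¹ᵁ V) (conormalSect j V m)
  have haV : ∀ (m : Γ(ClSub.idealMod j.ker, V)) (m' : Γ(ClSub.idealMod (i ≫ j).ker, V)),
      val (i ≫ j).ker V m' = val j.ker V m → a.app W (cl m) = conormalSect (i ≫ j) V m' := fun m m' hm => by
    have := ha.2 V m m' hm ((i ≫ j) ⁻¹ᵁ V) le_rfl le_rfl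
    exact (mres_le_self _ _ _).symm.trans (this.trans (mres_le_self _ _ _))
  have hclsurj : ∀ l, ∃ m, cl m = l := fun l => by
    obtain ⟨t, rfl⟩ := (pullSect_surjective_and_ker i haU (GrothLib.RegSeqLoc.app_surjective_of_restrict i haU hci).2 hsi _).1 l
    obtain ⟨m, rfl⟩ := (pullSect_surjective_and_ker j hV haU hsj _).1 t
    exact ⟨m, rfl⟩
  have hcladd : ∀ m n, cl (m + n) = cl m + cl n := fun m n => by
    show pullSect i _ _ (conormalSect j V (m + n)) = _
    rw [map_add, map_add]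
  have hclsmul : ∀ (c : Γ(X, V)) m, cl (c • m) = (i ≫ j).app V c • cl m := fun c m => by
    have h1 : conormalSect j V (c • m) = j.app V c • conormalSect j V m :=
      ((Scheme.Modules.pullbackPushforwardAdjunction j).unit.app (ClSub.idealMod j.ker)).app_smul c m
    have h2 : pullSect i (Omega.conormal j) (j ⁻¹ᵁ V) (j.app V c • conormalSect j V m) =
        (i ≫ j).app V c • cl m := by
      rw [hcomp]
      exact ((Scheme.Modules.pullbackPushforwardAdjunction i).unit.app (Omega.conormal j)).app_smul _ _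
    show pullSect i (Omega.conormal j) (j ⁻¹ᵁ V) (conormalSect j V (c • m)) = _
    rw [h1]
    exact h2
  have hsectadd : ∀ m n, conormalSect (i ≫ j) V (m + n) = conormalSect (i ≫ j) V m + conormalSect (i ≫ j) V n :=
    fun m n => map_add _ m n
  have hsectsmul : ∀ (c : Γ(X, V)) m,
      conormalSect (i ≫ j) V (c • m) = (i ≫ j).app V c • conormalSect (i ≫ j) V m := fun c m =>
    ((Scheme.Modules.pullbackPushforwardAdjunction (i ≫ j)).unit.app (ClSub.idealMod (i ≫ j).ker)).app_smul c m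
  have hvaladd : ∀ {K : X.IdealSheafData} (m n : Γ(ClSub.idealMod K, V)), val K V (m + n) = val K V m + val K V n :=
    fun {K} m n => map_add _ m n
  -- classes of elements of `𝔞 * J`
  have key : ∀ x ∈ 𝔞 * J, ∃ (m' : Γ(ClSub.idealMod (i ≫ j).ker, V)) (y : Γ(ClSub.idealMod j.ker, V)),
      val (i ≫ j).ker V m' = x ∧ val j.ker V y ∈ 𝔞 * I ∧
      cl y = ret (conormalSect (i ≫ j) V m') := by
    intro x hx
    refine Submodule.mul_induction_on hx (fun c hc d hd => ?_) ?_
    · obtain ⟨md, hmd⟩ := IdealModSec.exists_val_eq (i ≫ j).ker ⟨V, hV⟩ (a := d) (by rw [Scheme.Hom.ker_apply]; exact hd)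
      set σ := conormalSect (i ≫ j) V md
      obtain ⟨yd, hl⟩ := hclsurj (ret σ)
      refine ⟨c • md, c • yd, by rw [IdealModSec.val_smul, hmd], ?_, ?_⟩
      · rw [IdealModSec.val_smul]
        exact Ideal.mul_mem_mul hc (H1Sheaf6.app_val_eq_zero j V yd)
      · rw [hclsmul, hl, hsectsmul, map_smul]
    · rintro u v ⟨m, y, rfl, hy, e⟩ ⟨m', y', rfl, hy', e'⟩
      refine ⟨m + m', y + y', hvaladd m m', by rw [hvaladd]; exact add_mem hy hy', ?_⟩
      rw [hcladd, e, e', hsectadd, map_add]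
  intro x hx
  obtain ⟨m', y, hm', hy, hay⟩ := key x hx.2
  obtain ⟨m, hm⟩ := IdealModSec.exists_val_eq j.ker ⟨V, hV⟩ (a := x) (by rw [Scheme.Hom.ker_apply]; exact hx.1)
  have hal := haV m m' (hm'.trans hm.symm)
  rw [← hal, hret] at hay
  have hcl : cl (m - y) = 0 := by
    have := hcladd (m - y) y
    rw [sub_add_cancel, ← hay] at this
    simpa using this.symm
  -- the kernel of the class map
  have hker := ((pullSect_surjective_and_ker i haU (GrothLib.RegSeqLoc.app_surjective_of_restrict i haU hci).2 hsi _).2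
    (conormalSect j V (m - y))).1 hcl
  have hfin : val j.ker V (m - y) ∈ J * I := by
    have hmem : ∀ t ∈ RingHom.ker (i.app (j ⁻¹ᵁ V)).hom • (⊤ : Submodule Γ(Y, j ⁻¹ᵁ V) Γ(Omega.conormal j, j ⁻¹ᵁ V)),
        ∃ n, conormalSect j V n = t ∧ val j.ker V n ∈ J * I := by
      intro t ht
      refine Submodule.smul_induction_on ht (fun c hc t' _ => ?_) ?_
      · obtain ⟨c', rfl⟩ := hsj c
        obtain ⟨n, rfl⟩ := (pullSect_surjective_and_ker j hV haU hsj _).1 t'
        refine ⟨c' • n, ((Scheme.Modules.pullbackPushforwardAdjunction j).unit.app (ClSub.idealMod j.ker)).app_smul c' n, ?_⟩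
        rw [IdealModSec.val_smul]
        exact Ideal.mul_mem_mul ((hcomp c').trans hc) (H1Sheaf6.app_val_eq_zero j V n)
      · rintro _ _ ⟨n, rfl, hn⟩ ⟨n', rfl, hn'⟩
        exact ⟨n + n', map_add _ n n', by rw [hvaladd]; exact add_mem hn hn'⟩
    obtain ⟨n, hn, hnI⟩ := hmem _ hker
    have h0 : conormalSect j V (m - y - n) = 0 := by rw [map_sub, hn, sub_self]
    rw [conormalSect_eq_zero_iff j hV haU hsj] at h0
    have : val j.ker V (m - y) = val j.ker V (m - y - n) + val j.ker V n := by rw [← hvaladd, sub_add_cancel]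
    rw [this]
    refine add_mem ?_ hnI
    rw [pow_two] at h0
    exact Ideal.mul_mono_left hIJ h0
  have : x = val j.ker V (m - y) + val j.ker V y := by rw [← hvaladd, sub_add_cancel]; exact hm.symm
  rw [this]
  exact add_mem (Ideal.mul_mono_left h𝔞 hfin) hy

/-- Permanence for every kind other than plain regular. -/
theorem permanence {k : RegImm.Kind} (hk : k ≠ .regular) [IsImmersion i] [IsImmersion j] [QuasiCompact i]
    [QuasiCompact j] [LocallyOfFinitePresentation j]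
    (a : (Scheme.Modules.pullback i).obj (Omega.conormal j) ⟶ Omega.conormal (i ≫ j))
    (ha : OmegaSh.IsConormalMap (i ≫ j) j (𝟙 X) i a)
    (bb : Omega.conormal (i ≫ j) ⟶ Omega.conormal i) (w : a ≫ bb = 0)
    (hex : (ShortComplex.mk a bb w).ShortExact)
    (hsplit : ∀ z : Z, ∃ U : Z.Opens, z ∈ U ∧ ∃ r : (Scheme.Modules.restrictFunctor U.ι).obj (Omega.conormal i) ⟶
      (Scheme.Modules.restrictFunctor U.ι).obj (Omega.conormal (i ≫ j)),
      r ≫ (Scheme.Modules.restrictFunctor U.ι).map bb = 𝟙 _)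
    (hj : k = .koszul → RegImm.IsRegularImmersion .koszul j) (hij : RegImm.IsRegularImmersion k (i ≫ j)) :
    RegImm.IsRegularImmersion k i := by
  refine ⟨inferInstance, fun z => ?_⟩
  obtain ⟨O, hzO, r, hr⟩ := hsplit z
  obtain ⟨V₀, hV₀, hzV₀, hle, hcij₀, hcj₀, hci₀⟩ := exists_chart i j z O hzO
  obtain ⟨U₁, hU₁, hz₁, hc₁, hs₁⟩ := exists_fSeq_of_at hk (i ≫ j) z (hij.2 z)
  obtain ⟨g₀, g₁, hg, hzg⟩ := exists_basicOpen_le_affine_inter hV₀ hU₁ ((i ≫ j) z) ⟨hzV₀, hz₁⟩
  have hseq := exists_fSeq_basicOpen (i ≫ j) hU₁ hc₁ hs₁ g₁ _ hg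
  obtain ⟨hcij, -⟩ := chart_basicOpen (i ≫ j) hV₀ hcij₀ g₀
  obtain ⟨hcj, -⟩ := chart_basicOpen j hV₀ hcj₀ g₀
  have hci : ∀ {V : X.Opens}, V ≤ V₀ → IsClosedImmersion ((i ≫ j) ∣_ V) → IsClosedImmersion (j ∣_ V) →
      IsClosedImmersion (i ∣_ (j ⁻¹ᵁ V)) := fun {V} _ h1 h2 => by
    rw [morphismRestrict_comp] at h1
    haveI := h1
    haveI := h2
    exact IsClosedImmersion.of_comp (i ∣_ (j ⁻¹ᵁ V)) (j ∣_ V)
  have hleV : X.basicOpen g₀ ≤ V₀ := X.basicOpen_le g₀
  have hle₁ : (i ≫ j) ⁻¹ᵁ X.basicOpen g₀ ≤ O := ((i ≫ j).preimage_mono hleV).trans hle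
  by_cases hkk : k = .koszul
  · obtain ⟨U₂, hU₂, hz₂, hc₂, hs₂⟩ := exists_fSeq_of_at (k := .koszul) (fun h => by cases h) j (i z) ((hj hkk).2 (i z))
    obtain ⟨g₃, g₄, hg', hzg'⟩ := exists_basicOpen_le_affine_inter (hV₀.basicOpen g₀) hU₂ ((i ≫ j) z) ⟨hzg, hz₂⟩
    obtain ⟨h1, -⟩ := chart_basicOpen (i ≫ j) (hV₀.basicOpen g₀) hcij g₃
    obtain ⟨h2, -⟩ := chart_basicOpen j (hV₀.basicOpen g₀) hcj g₃
    have h3 := hci ((X.basicOpen_le g₃).trans hleV) h1 h2
    exact at_of_local i j (fun _ => ‹_›) ((hV₀.basicOpen g₀).basicOpen g₃) z hzg' h2 h3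
      (exists_fSeq_basicOpen (i ≫ j) (hV₀.basicOpen g₀) hcij hseq g₃ _ rfl)
      (fun _ => exists_fSeq_basicOpen j hU₂ hc₂ hs₂ g₄ _ hg')
      (fun 𝔞 h => inter_le_of_split i j a ha ((hV₀.basicOpen g₀).basicOpen g₃) h1 h2 h3
        (exists_retraction_of_section a bb w hex r hr
          (((i ≫ j).preimage_mono (X.basicOpen_le g₃)).trans hle₁)) 𝔞 h)
  · exact at_of_local i j (fun _ => ‹_›) (hV₀.basicOpen g₀) z hzg hcj (hci hleV hcij hcj) hseq (fun h => absurd h hkk)
      (fun 𝔞 h => inter_le_of_split i j a ha (hV₀.basicOpen g₀) hcij hcj (hci hleV hcij hcj)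
        (exists_retraction_of_section a bb w hex r hr hle₁) 𝔞 h)

/-- Koszul permanence along a locally retracted conormal map. -/
theorem permanence_koszul [IsClosedImmersion i] [IsClosedImmersion j]
    (a : (Scheme.Modules.pullback i).obj (Omega.conormal j) ⟶ Omega.conormal (i ≫ j))
    (ha : OmegaSh.IsConormalMap (i ≫ j) j (𝟙 X) i a)
    (hsplit : ∀ z : Z, ∃ (U : Z.Opens) (ρ : (Scheme.Modules.restrictFunctor U.ι).obj (Omega.conormal (i ≫ j)) ⟶
        (Scheme.Modules.restrictFunctor U.ι).obj ((Scheme.Modules.pullback i).obj (Omega.conormal j))),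
        z ∈ U ∧ (Scheme.Modules.restrictFunctor U.ι).map a ≫ ρ = 𝟙 _)
    (hj : RegImm.IsRegularImmersion .koszul j) (hij : RegImm.IsRegularImmersion .koszul (i ≫ j)) :
    RegImm.IsRegularImmersion .koszul i := by
  refine ⟨inferInstance, fun z => ?_⟩
  obtain ⟨O, ρ, hzO, hρ⟩ := hsplit z
  obtain ⟨V₀, hV₀, hzV₀, hle, hcij₀, hcj₀, hci₀⟩ := exists_chart i j z O hzO
  obtain ⟨U₁, hU₁, hz₁, hc₁, hs₁⟩ := exists_fSeq_of_at (fun h => by cases h) (i ≫ j) z (hij.2 z)
  obtain ⟨g₀, g₁, hg, hzg⟩ := exists_basicOpen_le_affine_inter hV₀ hU₁ ((i ≫ j) z) ⟨hzV₀, hz₁⟩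
  have hseq := exists_fSeq_basicOpen (i ≫ j) hU₁ hc₁ hs₁ g₁ _ hg
  obtain ⟨U₂, hU₂, hz₂, hc₂, hs₂⟩ := exists_fSeq_of_at (fun h => by cases h) j (i z) (hj.2 (i z))
  obtain ⟨g₃, g₄, hg', hzg'⟩ := exists_basicOpen_le_affine_inter (hV₀.basicOpen g₀) hU₂ ((i ≫ j) z) ⟨hzg, hz₂⟩
  obtain ⟨hcij, -⟩ := chart_basicOpen (i ≫ j) hV₀ hcij₀ g₀
  obtain ⟨hcj, -⟩ := chart_basicOpen j hV₀ hcj₀ g₀
  obtain ⟨h1, -⟩ := chart_basicOpen (i ≫ j) (hV₀.basicOpen g₀) hcij g₃
  obtain ⟨h2, -⟩ := chart_basicOpen j (hV₀.basicOpen g₀) hcj g₃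
  have h3 : IsClosedImmersion (i ∣_ (j ⁻¹ᵁ X.basicOpen g₃)) := IsZariskiLocalAtTarget.restrict ‹_› _
  exact at_of_local i j (fun h => absurd rfl h) ((hV₀.basicOpen g₀).basicOpen g₃) z hzg' h2 h3
    (exists_fSeq_basicOpen (i ≫ j) (hV₀.basicOpen g₀) hcij hseq g₃ _ rfl)
    (fun _ => exists_fSeq_basicOpen j hU₂ hc₂ hs₂ g₄ _ hg')
    (fun 𝔞 h => inter_le_of_split i j a ha ((hV₀.basicOpen g₀).basicOpen g₃) h1 h2 h3
      (exists_retraction a ρ hρ (((i ≫ j).preimage_mono ((X.basicOpen_le g₃).trans (X.basicOpen_le g₀))).trans hle)) 𝔞 h)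

end GrothLib.RegImm12
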